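import Mathlib
import Cfsg.Prelude.Def_Sz
import Cfsg.Agent.Lib.Sz.Models
import Cfsg.Agent.Lib.Sz.Normalizers
import Cfsg.Agent.Lib.Sz.Sylow

/-! Thompson's classification of simple groups of order prime to three, as a hypothesis. -/

set_option autoImplicit false

namespace CfsgLib.S4Cor

open Subgroup Cfsg CfsgLib.Sz

universe u

/-- the simple groups of order prime to three are Suzuki groups -/
def T3 : Prop := ∀ (G : Type u) [Group G] [Finite G], IsSimpleGroup G → ¬ IsMulCommutative G →
  ¬ 3 ∣ Nat.card G → Lie.IsoSuzuki G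

theorem sz_model {G : Type*} [Group G] (h : Lie.IsoSuzuki G) : ∃ (F : Type) (_ : Field F) (_ : Fintype F)
    (m : ℕ) (_ : 1 ≤ m) (hF : Fintype.card F = 2 ^ (2 * m + 1)), Nonempty (G ≃* (tits hF).grp) := by
  obtain ⟨F, _, _, m, hm, hF, ⟨e⟩⟩ := h
  exact ⟨F, _, _, m, hm, hF, ⟨e.trans (lieSzEquiv hF).symm⟩⟩

/-- elements of odd order of a Suzuki group are inverted by an involution -/
theorem exists_invert {G : Type*} [Group G] (h : Lie.IsoSuzuki G) {x : G} (h1 : x ≠ 1)
    (ho : Odd (orderOf x)) : ∃ z : G, z * z = 1 ∧ z * x * z⁻¹ = x⁻¹ := by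
  obtain ⟨F, _, _, m, hm, hF, ⟨e⟩⟩ := sz_model h
  have hA := Tits.isTorus_centralizer (τ := tits hF) (exists_ne_zero_one hm hF) (g := e x)
    (by simpa using h1) (by rwa [e.orderOf_eq])
  obtain ⟨z, hz, h2, h3⟩ := hA.exists_involution hm (by rwa [Nat.card_eq_fintype_card])
  refine ⟨e.symm z, by rw [← map_mul, h2, map_one], e.injective ?_⟩
  simpa using hA.conj_eq_inv hz h2 h3 (mem_centralizer_singleton_iff.mpr rfl)

theorem exists_prime_card {G : Type*} [Group G] (hs : IsSimpleGroup G) (hc : IsMulCommutative G) :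
    (Nat.card G).Prime := by
  let _ : CommGroup G := { (inferInstance : Group G) with mul_comm := hc.is_comm.comm }
  exact IsSimpleGroup.prime_card

end CfsgLib.S4Cor
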