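import Mathlib
import Cfsg.Agent.Lib.BCor.Mod
import Cfsg.Agent.Lib.S4Free.Mod
import Cfsg.Agent.Lib.PLocal.ElemRep

/-! Fixed spaces of `2`-subgroups and dihedral subgroups of their centralizers. -/

set_option autoImplicit false

namespace CfsgLib.S4Cor

open Subgroup Cfsg CfsgLib.BCor CfsgLib.S4Free CfsgLib.PLocal Module
open scoped commutatorElement

variable {G : Type*} [Group G]

/-- The property of the orders `f B` of the fixed spaces in a faithful module. -/
def KL (f : Subgroup G → ℕ) : Prop :=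
  ∀ A B : Subgroup G, IsPGroup 2 B → B ≤ A → ∀ t ∈ A, t * t = 1 → t ∈ centralizer (B : Set G) →
    ∀ p : ℕ, p.Prime → p ≠ 2 → ∀ y ∈ centralizer (B : Set G), orderOf y = p →
      t * y * t⁻¹ = y⁻¹ → ∃ j, 0 < j ∧ p ∣ 4 ^ j - 1 ∧ 2 ^ j * f A ≤ f B

variable {V : Type*} [AddCommGroup V] [Module (ZMod 2) V] [Module.Finite (ZMod 2) V]

theorem kl_fix [Finite G] {ρ : Representation (ZMod 2) G V} (hρ : Function.Injective ρ) :
    KL fun B => Nat.card (fix ρ B) := by
  intro A B hB hBA t ht htt htB p hp hp2 y hy ho hi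
  have := finite_mod (V := V)
  have hinv : ∀ g : centralizer (B : Set G), fix ρ B ≤ (fix ρ B).comap
      ((ρ.comp (centralizer (B : Set G)).subtype) g) := fun g m hm b hb => by
    have := D_conj (ρ := ρ) g b m
    rw [hm b hb, map_zero, ← g.2 b hb, mul_inv_cancel_right] at this
    exact this
  let σ := Representation.subrepresentation (ρ.comp (centralizer (B : Set G)).subtype) _ hinv
  have hσ : ∀ g m, (σ g m : V) = ρ g m := fun _ _ => rfl
  have ho' : orderOf (⟨y, hy⟩ : centralizer (B : Set G)) = p := by rw [← ho, ← orderOf_coe]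
  have hodd : Odd p := hp.odd_of_ne_two hp2
  obtain ⟨j, h1, h2⟩ := exists_rk_eq σ (a := ⟨t, htB⟩) (x := ⟨y, hy⟩) (Subtype.ext htt)
    (ho' ▸ hodd) (Subtype.ext hi)
  have h3 := dvd_pow_rk_sub_one σ hp hp2 ho'
  refine ⟨j, Nat.pos_of_ne_zero ?_, by rwa [h2, pow_mul] at h3, ?_⟩
  · rintro rfl
    rw [rk, Submodule.finrank_eq_zero, LinearMap.range_eq_bot, sub_eq_zero] at h2
    have h4 : ∀ m ∈ fix ρ B, ρ y m = m := fun m hm =>
      congrArg Subtype.val (LinearMap.congr_fun h2 ⟨m, hm⟩)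
    have hc : ∀ b ∈ B, ∀ m, D ρ y (ρ b m) = ρ b (D ρ y m) := fun b hb m => by
      rw [← D_conj, hy b hb, mul_inv_cancel_right]
    by_cases hk : LinearMap.ker (D ρ y) = ⊤
    · refine hp.one_lt.ne' (ho.symm.trans (orderOf_eq_one_iff.2 (hρ ?_)))
      rw [map_one, rho_eq, LinearMap.ker_eq_top.1 hk, add_zero]
    obtain ⟨m, hm, hm'⟩ := exists_fixed_mod (ρ := ρ) hB (P := LinearMap.ker (D ρ y))
      (fun b hb m hm => by rw [LinearMap.mem_ker, hc b hb, LinearMap.mem_ker.1 hm, map_zero]) hk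
    refine hm (eq_zero_of_fix ρ (ho ▸ hodd) ⟨m, rfl⟩ (h4 _ fun b hb => ?_))
    have := hm' b hb
    rwa [LinearMap.mem_ker, D_apply b, map_sub, hc b hb, ← D_apply] at this
  · have h4 : finrank (ZMod 2) (fix ρ A) ≤ finrank (ZMod 2) (LinearMap.ker (σ ⟨t, htB⟩ - 1)) := by
      rw [← Submodule.finrank_map_subtype_eq]
      exact Submodule.finrank_mono fun m hm =>
        ⟨⟨m, fun b hb => hm b (hBA hb)⟩, Subtype.ext (hm t ht), rfl⟩
    have h5 := LinearMap.finrank_range_add_finrank_ker (σ ⟨t, htB⟩ - 1)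
    rw [rk] at h1
    simp only
    rw [card_mod, card_mod, ← pow_add]
    exact Nat.pow_le_pow_right two_pos (by omega)

theorem dual_injective {ρ : Representation (ZMod 2) G V} (hρ : Function.Injective ρ) :
    Function.Injective ρ.dual := by
  refine (injective_iff_map_eq_one _).2 fun g hg => inv_eq_one.1 (hρ ?_)
  rw [map_one]
  ext v
  refine sub_eq_zero.1 ((Module.forall_dual_apply_eq_zero_iff (ZMod 2) _).1 fun φ => ?_)
  rw [map_sub, sub_eq_zero]
  exact LinearMap.congr_fun (LinearMap.congr_fun hg φ) v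

theorem card_fix_dual (ρ : Representation (ZMod 2) G V) (B : Subgroup G) :
    Nat.card (fix ρ.dual B) * Nat.card (comm ρ ⊤ B) = Nat.card V := by
  have h : fix ρ.dual B = (comm ρ ⊤ B).dualAnnihilator := by
    ext φ
    rw [Submodule.mem_dualAnnihilator]
    refine ⟨fun h => (comm_le_iff (X := LinearMap.ker φ)).2 fun b hb m _ => ?_, fun h b hb => ?_⟩
    · have := LinearMap.congr_fun (h b⁻¹ (inv_mem hb)) m
      simpa [D, Module.Dual.transpose_apply] using this
    · ext m
      have := h _ (D_mem_comm (ρ := ρ) (inv_mem hb) (Submodule.mem_top (x := m)))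
      simpa [D, Module.Dual.transpose_apply] using this
  rw [h, card_mod, card_mod, card_mod, ← pow_add, add_comm,
    Subspace.finrank_add_finrank_dualAnnihilator_eq]

section Elem

variable [Finite G] {M H : Subgroup G} (hM : IsElementaryAbelian 2 M)
  (hH : H ≤ normalizer (M : Set G))

omit [Finite G] in
theorem rep_injective (hf : H ⊓ centralizer (M : Set G) = ⊥) :
    Function.Injective (ElemMod.rep hM hH) :=
  (injective_iff_map_eq_one _).2 fun g hg => Subtype.ext (mem_bot.1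
    (hf ▸ mem_inf.2 ⟨g.2, (ElemMod.rep_eq_one_iff hH g).1 hg⟩))

omit [Finite G] in
theorem card_fix_rep {A : Subgroup G} (hA : A ≤ H) :
    Nat.card (fix (ElemMod.rep hM hH) (A.subgroupOf H)) =
      Nat.card ↥(M ⊓ centralizer (A : Set G)) := by
  rw [← ElemMod.card_sub (hV := hM)]
  congr 3
  ext x
  exact ⟨fun h a ha => (ElemMod.rep_apply_eq_iff hH ⟨a, hA ha⟩ x).1 (D_eq_zero_iff.1 (h _ ha)),
    fun h a ha => D_eq_zero_iff.2 ((ElemMod.rep_apply_eq_iff hH a x).2 (h _ ha))⟩

theorem card_comm_rep (A : Subgroup G) :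
    Nat.card (comm (ElemMod.rep hM hH) ⊤ (A.subgroupOf H)) ≤ Nat.card ↥⁅M, A⁆ := by
  rw [← ElemMod.card_toSubgroup]
  refine card_le_of_le ?_
  rintro _ ⟨x, hx, rfl⟩
  refine (comm_le_iff (X := ElemMod.sub hM ⁅M, A⁆)).2 (fun a ha m _ => ?_) hx
  rw [ElemMod.mem_sub, D_apply, ElemMod.toG_rep_sub, Subgroup.commutator_comm]
  exact commutator_mem_commutator ha m.toG_mem

end Elem

end CfsgLib.S4Cor
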