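import Mathlib
import Cfsg.Agent.Lib.S4Cor.Off1
import Cfsg.Agent.Lib.Gold.S4F
import Cfsg.Agent.Lib.Push.QdF
import Cfsg.Agent.Lib.Coprime.Generation
import Cfsg.Agent.Lib.Invol.BaerSuzuki
import Cfsg.Agent.Lib.Comp.FStar
import Cfsg.Agent.Lib.Core.Fitting

/-! `|V : C_V(A)| ≥ |A|²` for `S₃`-free groups: the group theoretic part. -/

set_option autoImplicit false

namespace CfsgLib.S4Cor

open Subgroup Cfsg CfsgLib.PLocal CfsgLib.LAE Equiv
open scoped commutatorElement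

universe u

variable {G : Type u} [Group G] [Finite G] {f : Subgroup G → ℕ} {A : Subgroup G}

theorem exists_prime_inv {y t : G} (h1 : y ≠ 1) (ho : Odd (orderOf y)) (hi : t * y * t⁻¹ = y⁻¹) :
    ∃ p : ℕ, p.Prime ∧ p ≠ 2 ∧ ∃ z ∈ zpowers y, orderOf z = p ∧ t * z * t⁻¹ = z⁻¹ := by
  obtain ⟨p, hp, hd⟩ := Nat.exists_prime_and_dvd (fun e => h1 (orderOf_eq_one_iff.1 e))
  refine ⟨p, hp, fun e => ho.not_two_dvd_nat (e ▸ hd), y ^ (orderOf y / p), npow_mem_zpowers _ _,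
    orderOf_pow_orderOf_div (orderOf_pos y).ne' hd, ?_⟩
  rw [← conj_pow, hi, inv_pow]

omit [Finite G] in
theorem eq_one_of_inv {y t : G} (ho : Odd (orderOf y)) (hi : t * y * t⁻¹ = y⁻¹)
    (hc : t * y = y * t) : y = 1 := by
  rw [hc, mul_inv_cancel_right, eq_inv_iff_mul_eq_one, ← pow_two] at hi
  exact orderOf_eq_one_iff.1 (Nat.Coprime.eq_one_of_dvd (Nat.coprime_two_right.2 ho)
    (orderOf_dvd_of_pow_eq_one hi))

/-- A minimal counterexample. -/
structure Bad (f : Subgroup G → ℕ) (A : Subgroup G) : Prop where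
  kl : KL f
  s3 : ¬ Involves (Perm (Fin 3)) G
  elem : IsElementaryAbelian 2 A
  ne : A ≠ ⊥
  lt : ∀ B < A, f B < B.relIndex A ^ 2 * f A

theorem exists_bad (hf : KL f) (h3 : ¬ Involves (Perm (Fin 3)) G) (hA : IsElementaryAbelian 2 A)
    (h : f ⊥ < Nat.card A ^ 2 * f A) : ∃ A', Bad f A' := by
  obtain ⟨A', ⟨h1, h2⟩, h4⟩ := exists_minimal_of_wellFoundedLT
    (fun X : Subgroup G => IsElementaryAbelian 2 X ∧ f ⊥ < Nat.card X ^ 2 * f X) ⟨A, hA, h⟩
  refine ⟨A', hf, h3, h1, fun e => by simp [e] at h2, fun B hB => ?_⟩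
  have h5 : Nat.card B ^ 2 * f B ≤ f ⊥ :=
    not_lt.1 fun h => hB.not_ge (h4 ⟨elemAb_mono h1 hB.le, h⟩ hB.le)
  have h6 := h5.trans_lt h2
  rw [card_eq_relIndex_mul B A', inf_eq_left.2 hB.le, mul_pow, mul_comm (_ ^ 2) (Nat.card B ^ 2),
    mul_assoc] at h6
  exact Nat.lt_of_mul_lt_mul_left h6

namespace Bad

omit [Finite G] in
theorem sq (h : Bad f A) {a : G} (ha : a ∈ A) : a * a = 1 := by rw [← pow_two, h.elem.2 a ha]

omit [Finite G] in
theorem key (h : Bad f A) {B : Subgroup G} (hB : B ≤ A) {t : G} (ht : t ∈ A) {p : ℕ} (hp : p.Prime)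
    (hp2 : p ≠ 2) {y : G} (hy : y ∈ centralizer (B : Set G)) (ho : orderOf y = p)
    (hi : t * y * t⁻¹ = y⁻¹) : ∃ j, 0 < j ∧ p ∣ 4 ^ j - 1 ∧ 2 ^ j < B.relIndex A ^ 2 := by
  obtain ⟨j, h1, h2, h3⟩ := h.kl A B (elemAb_isPGroup (elemAb_mono h.elem hB)) hB t ht (h.sq ht)
    (fun b hb => elemAb_comm h.elem (hB hb) ht) p hp hp2 y hy ho hi
  refine ⟨j, h1, h2, Nat.lt_of_mul_lt_mul_right (h3.trans_lt (h.lt B (hB.lt_of_ne ?_)))⟩
  rintro rfl
  rw [eq_one_of_inv (ho ▸ hp.odd_of_ne_two hp2) hi (hy t ht), orderOf_one] at ho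
  exact hp.one_lt.ne ho

theorem three (h : Bad f A) {p i j : ℕ} (hp : p.Prime) {y t : G} (ho : orderOf y = p)
    (hi : t * y * t⁻¹ = y⁻¹) (h1 : 0 < j) (h2 : p ∣ 4 ^ j - 1) (h3 : 2 ^ j < i ^ 2) : 2 < i := by
  by_contra h4
  have h5 : 2 ^ j < 2 ^ 2 := h3.trans_le (Nat.pow_le_pow_left (not_lt.1 h4) 2)
  obtain rfl : j = 1 := by have := (Nat.pow_lt_pow_iff_right one_lt_two).1 h5; omega
  exact h.s3 (Gold.S4F.s3_of_real
    (ho.trans ((Nat.prime_dvd_prime_iff_eq hp Nat.prime_three).1 h2)) hi)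

theorem cent_odd (h : Bad f A) {Q : Subgroup G} (hQ : Odd (Nat.card Q))
    (hn : A ≤ normalizer (Q : Set G)) : Q ≤ centralizer (A : Set G) := by
  have := h.elem.1
  obtain ⟨n, hn'⟩ := (elemAb_isPGroup h.elem).exists_card_eq
  refine Coprime.le_of_forall_hyperplane Nat.prime_two h.elem.2 h.ne hn
    (hn' ▸ (Nat.coprime_two_left.2 hQ).pow_left n) fun B hB hi x hx t ht => ?_
  by_contra hne
  have h1 : x * (t * x⁻¹ * t⁻¹) ∈ Q := mul_mem hx.1 (conj_mem_of_mem_normalizer (hn ht) (inv_mem hx.1))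
  have h2 : t ∈ centralizer (B : Set G) := fun b hb => elemAb_comm h.elem (hB hb) ht
  obtain ⟨p, hp, hp2, z, hz, ho, h3⟩ := exists_prime_inv (y := x * (t * x⁻¹ * t⁻¹)) (t := t)
    (fun e => hne (by
      calc t * x = (x * (t * x⁻¹ * t⁻¹)) * (t * x) := by rw [e, one_mul]
        _ = x * t := by group))
    (hQ.of_dvd_nat (orderOf_dvd_natCard Q h1)) (by
      calc _ = t * x * t⁻¹ * (t * t) * x⁻¹ * (t * t)⁻¹ := by group
        _ = _ := by rw [h.sq ht]; group)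
  obtain ⟨j, h4, h5, h6⟩ := h.key hB ht hp hp2 (zpowers_le.2 (mul_mem hx.2
    (mul_mem (mul_mem h2 (inv_mem hx.2)) (inv_mem h2))) hz) ho h3
  exact (h.three hp ho h3 h4 h5 h6).ne hi.symm

end Bad

omit [Finite G] in
theorem comm_of_closure {S : Set G} (h : ∀ a ∈ S, ∀ b ∈ S, a * b = b * a) {x y : G}
    (hx : x ∈ closure S) (hy : y ∈ closure S) : Commute x y := by
  have h1 : closure S ≤ centralizer S := (closure_le _).2 fun a ha b hb => h b hb a ha
  rw [← centralizer_closure] at h1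
  exact (h1 hx y hy).symm

omit [Finite G] in
theorem comm_conj {K : Subgroup G} (hK : IsComponent K) {g a b : G} (hg : g ∉ normalizer (K : Set G))
    (ha : a ∈ K) (hb : b ∈ K) : a * (g * b * g⁻¹) = g * b * g⁻¹ * a :=
  (Comp.comp_le_centralizer_of_ne hK (Comp.comp_map_conj hK g)
    (fun e => hg (mem_normalizer_iff_map_conj_eq.2 e.symm)) ha _ ⟨b, hb, rfl⟩).symm

omit [Finite G] in
theorem comm_conj_conj {K : Subgroup G} (hK : IsComponent K) {y a b : G} (hy : y ∈ K)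
    (h : a⁻¹ * b ∈ normalizer (K : Set G) → a⁻¹ * b * y = y * (a⁻¹ * b)) :
    a * y * a⁻¹ * (b * y * b⁻¹) = b * y * b⁻¹ * (a * y * a⁻¹) := by
  have h1 : y * (a⁻¹ * b * y * (a⁻¹ * b)⁻¹) = a⁻¹ * b * y * (a⁻¹ * b)⁻¹ * y := by
    by_cases hn : a⁻¹ * b ∈ normalizer (K : Set G)
    · rw [h hn, mul_inv_cancel_right]
    · exact comm_conj hK hn hy hy
  calc _ = a * (y * (a⁻¹ * b * y * (a⁻¹ * b)⁻¹)) * a⁻¹ := by group
    _ = _ := by rw [h1]; group

/-- The diagonal element. -/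
theorem exists_diag {K C : Subgroup G} (hK : IsComponent K) (hC : C ⊓ normalizer (K : Set G) = ⊥)
    {y : G} (hy : y ∈ K) (hyc : y ∉ centralizer (K : Set G)) :
    ∃ z, z ≠ 1 ∧ z ∈ centralizer (C : Set G) ∧ (∀ n : ℕ, y ^ n = 1 → z ^ n = 1) ∧
      ∀ g ∈ centralizer (C : Set G),
        (g * y = y * g → g * z = z * g) ∧ (g * y * g⁻¹ = y⁻¹ → g * z * g⁻¹ = z⁻¹) := by
  classical
  have := Fintype.ofFinite C
  let F : C → G := fun c => c * y * (c : G)⁻¹
  have hc : ∀ a b, Commute (F a) (F b) := fun a b => comm_conj_conj hK hy fun hn => by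
    rw [mem_bot.1 (hC.le ⟨C.mul_mem (C.inv_mem a.2) b.2, hn⟩), one_mul, mul_one]
  have hp : ((Finset.univ : Finset C) : Set C).Pairwise (Function.onFun Commute F) :=
    fun a _ b _ _ => hc a b
  have hS : ∀ a ∈ Set.range F, ∀ b ∈ Set.range F, a * b = b * a := by
    rintro _ ⟨a, rfl⟩ _ ⟨b, rfl⟩
    exact hc a b
  have hz : Finset.univ.noncommProd F hp ∈ closure (Set.range F) :=
    Subgroup.noncommProd_mem _ _ fun c _ => subset_closure ⟨c, rfl⟩
  have hg : ∀ g ∈ centralizer (C : Set G), ∀ c, g * F c * g⁻¹ = c * (g * y * g⁻¹) * (c : G)⁻¹ :=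
    fun g hg c => by
      calc _ = (g * c) * y * (g * c)⁻¹ := by simp only [F]; group
        _ = _ := by rw [← hg c c.2]; group
  refine ⟨Finset.univ.noncommProd F hp, fun e => hyc ?_, fun c hc' => ?_,
    fun n hn => ?_, fun g hg' => ⟨fun h => ?_, fun h => ?_⟩⟩
  · rw [← Finset.mul_noncommProd_erase _ (Finset.mem_univ 1), mul_eq_one_iff_eq_inv] at e
    have e1 : F 1 = y := by simp [F]
    rw [← e1, e]
    refine inv_mem (Subgroup.noncommProd_mem _ _ fun c hc k hk => comm_conj hK (fun hn => ?_) hk hy)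
    exact Finset.ne_of_mem_erase hc (Subtype.ext (mem_bot.1 (hC.le ⟨c.2, hn⟩)))
  · rw [← mul_inv_eq_iff_eq_mul, ← MulAut.conj_apply, Finset.map_noncommProd]
    unfold Finset.noncommProd
    congr 1
    conv_rhs => rw [← Finset.map_univ_equiv (Equiv.mulLeft (⟨c, hc'⟩ : C)), Finset.map_val,
      Multiset.map_map]
    exact Multiset.map_congr rfl fun a _ => by simp [F, mul_assoc]
  · refine closure_induction (p := fun x _ => x ^ n = 1) ?_ (one_pow n) (fun a b ha hb h1 h2 => ?_)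
      (fun a _ h => by rw [inv_pow, h, inv_one]) hz
    · rintro _ ⟨c, rfl⟩
      rw [conj_pow, hn, mul_one, mul_inv_cancel]
    · rw [(comm_of_closure hS ha hb).mul_pow, h1, h2, one_mul]
  · refine Finset.noncommProd_commute _ _ _ _ fun c _ => mul_inv_eq_iff_eq_mul.1 ?_
    rw [hg g hg', h, mul_inv_cancel_right]
  · refine closure_induction (p := fun x _ => g * x * g⁻¹ = x⁻¹) ?_ (by simp)
      (fun a b ha hb h1 h2 => ?_) (fun a _ h => by rw [← conj_inv, h]) hz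
    · rintro _ ⟨c, rfl⟩
      rw [hg g hg', h, conj_inv]
    · rw [← conj_mul, h1, h2, (comm_of_closure hS ha hb).eq, mul_inv_rev]

theorem exists_odd_of_comp {K : Subgroup G} (hK : IsComponent K) :
    ∃ y ∈ K, y ∉ centralizer (K : Set G) ∧ Odd (orderOf y) := by
  by_contra hn
  push Not at hn
  have h1 : IsPGroup 2 (K ⧸ center K) := fun x => by
    obtain ⟨x, rfl⟩ := QuotientGroup.mk'_surjective _ x
    obtain ⟨k, m, hm, e⟩ := Nat.exists_eq_two_pow_mul_odd (orderOf_pos (x : G)).ne'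
    refine ⟨k, ?_⟩
    rw [← map_pow, QuotientGroup.mk'_apply, QuotientGroup.eq_one_iff,
      Comp.center_eq_subgroupOf_centralizer, mem_subgroupOf]
    by_contra hc
    refine hn _ (x ^ 2 ^ k).2 hc (hm.of_dvd_nat (orderOf_dvd_of_pow_eq_one ?_))
    rw [coe_pow, ← pow_mul, ← e, pow_orderOf_eq_one]
  have := h1.isNilpotent
  have := hK.2.2
  exact Comp.qs_quotient_center_not_isMulCommutative hK.2
    ⟨⟨IsSimpleGroup.comm_iff_isSolvable.2 inferInstance⟩⟩

/-- What is needed about a component. -/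
def CF (K : Subgroup G) : Prop :=
  ∀ N ≤ normalizer (K : Set G), (∀ a ∈ N, a * a = 1) → 2 < (centralizer (K : Set G)).relIndex N →
    ∃ t ∈ N, ∃ p : ℕ, p.Prime ∧ p ≠ 2 ∧ ∃ y ∈ K, y ∉ centralizer (K : Set G) ∧
      y ^ p ∈ centralizer (K : Set G) ∧ t * y * t⁻¹ = y⁻¹ ∧
      ∀ j, 0 < j → 2 ^ j < (centralizer (K : Set G)).relIndex N ^ 2 → ¬ p ∣ 4 ^ j - 1

theorem odd_card_core : Odd (Nat.card (pPrimeCore 2 G)) :=
  Nat.coprime_two_right.1 (Core.coprime_card_pPrimeCore 2 G)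

theorem Bad.cent_core (h : Bad f A) : pPrimeCore 2 G ≤ centralizer (A : Set G) :=
  h.cent_odd odd_card_core le_normalizer_of_normal

theorem Bad.not_le_core (h : Bad f A) : ¬ A ≤ pPrimeCore 2 G := fun hle => by
  obtain ⟨a, ha, h1⟩ := (A.bot_or_exists_ne_one).resolve_left h.ne
  exact h1 (eq_one_of_inv (t := 1) (odd_card_core.of_dvd_nat (orderOf_dvd_natCard _ (hle ha)))
    (by simpa [eq_inv_iff_mul_eq_one] using h.sq ha) (by simp))

theorem Bad.le_cent_comp (h : Bad f A) (h2 : pCore 2 G = ⊥) {K : Subgroup G} (hK : IsComponent K)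
    (hF : CF K) : A ≤ centralizer (K : Set G) := by
  have hZ : K ⊓ centralizer (K : Set G) ≤ pPrimeCore 2 G := (Comp.comp_inf_centralizer_le_fit hK).trans
    (Core.fittingSubgroup_le_pPrimeCore_of_pCore_eq_bot Nat.prime_two h2)
  have hZ' : ∀ t ∈ A, ∀ y ∈ K, y ∈ centralizer (K : Set G) → t * y * t⁻¹ = y⁻¹ → y = 1 :=
    fun t ht y h1 h3 h4 => eq_one_of_inv
      (odd_card_core.of_dvd_nat (orderOf_dvd_natCard _ (hZ ⟨h1, h3⟩))) h4
      (h.cent_core (hZ ⟨h1, h3⟩) t ht)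
  by_cases hN : A ⊓ normalizer (K : Set G) ≤ centralizer (K : Set G)
  · obtain ⟨y, hy, hyc, ho⟩ := exists_odd_of_comp hK
    let F : A → G := fun c => c * y * (c : G)⁻¹
    have hS : ∀ a ∈ Set.range F, ∀ b ∈ Set.range F, a * b = b * a := by
      rintro _ ⟨a, rfl⟩ _ ⟨b, rfl⟩
      exact comm_conj_conj hK hy fun hn => (hN ⟨A.mul_mem (A.inv_mem a.2) b.2, hn⟩ y hy).symm
    have hQ := h.cent_odd (Q := closure (Set.range F)) (by
      by_contra he
      obtain ⟨x, hx⟩ := exists_prime_orderOf_dvd_card' 2 (even_iff_two_dvd.1 (Nat.not_odd_iff_even.1 he))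
      refine ho.not_two_dvd_nat (hx ▸ orderOf_dvd_of_pow_eq_one (Subtype.ext ?_))
      refine closure_induction (p := fun x _ => x ^ orderOf y = 1) ?_ (one_pow _)
        (fun a b ha hb h1 h2 => ?_) (fun a _ h => by rw [inv_pow, h, inv_one]) x.2
      · rintro _ ⟨c, rfl⟩
        rw [conj_pow, pow_orderOf_eq_one, mul_one, mul_inv_cancel]
      · rw [(comm_of_closure hS ha hb).mul_pow, h1, h2, one_mul]) fun a ha => by
      refine mem_normalizer_fintype ((closure_le ((Subgroup.closure _).comap (MulAut.conj a).toMonoidHom)).2 ?_)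
      rintro _ ⟨c, rfl⟩
      exact subset_closure ⟨⟨a, ha⟩ * c, by simp [F, mul_assoc]⟩
    intro a ha
    refine hN ⟨ha, by_contra fun hn => hyc fun k hk => ?_⟩
    have h1 := comm_conj hK hn hk hy
    rwa [hQ (subset_closure ⟨1, by simp [F]⟩) a ha, mul_inv_cancel_right] at h1
  exfalso
  obtain ⟨C, hC, hC1, hC2⟩ := Push.exists_compl_of_elemAb (normalizer (K : Set G)) h.elem
  have hB : C ⊔ A ⊓ centralizer (K : Set G) ≤ A := sup_le hC inf_le_left
  have hAC : A ≤ centralizer (C : Set G) := (elemAb_le_centralizer h.elem).trans (centralizer_le hC)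
  have key : ∀ t ∈ A, ∀ p : ℕ, p.Prime → p ≠ 2 → ∀ y ∈ K, y ∉ centralizer (K : Set G) → y ^ p = 1 →
      t * y * t⁻¹ = y⁻¹ → ∃ j, 0 < j ∧ p ∣ 4 ^ j - 1 ∧
        2 ^ j < (centralizer (K : Set G)).relIndex (A ⊓ normalizer (K : Set G)) ^ 2 := by
    intro t ht p hp hp2 y hy hyc hyp hi
    have := Fact.mk hp
    obtain ⟨z, h1, h3, h4, h5⟩ := exists_diag hK hC1 hy hyc
    have h9 : C ⊔ A ⊓ centralizer (K : Set G) ≤ centralizer ({z} : Set G) :=
      sup_le (fun g hg => mem_centralizer_singleton_iff.2 (h3 g hg)) fun g hg =>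
        mem_centralizer_singleton_iff.2 ((h5 g (hAC hg.1)).1 (hg.2 y hy).symm)
    obtain ⟨j, h6, h7, h8⟩ := h.key hB ht hp hp2 (y := z)
      (fun g hg => mem_centralizer_singleton_iff.1 (h9 hg))
      (orderOf_eq_prime (h4 p hyp) h1) ((h5 t (hAC ht)).2 hi)
    refine ⟨j, h6, h7, h8.trans_le (Nat.pow_le_pow_left ?_ 2)⟩
    have e : A = A ⊓ normalizer (K : Set G) ⊔ (C ⊔ A ⊓ centralizer (K : Set G)) :=
      le_antisymm (hC2.ge.trans (sup_le (le_sup_left.trans le_sup_right) le_sup_left))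
        (sup_le inf_le_left hB)
    have e2 := PLocal.relIndex_sup_of_le_normalizer (A := A ⊓ normalizer (K : Set G))
      (le_normalizer_of_le_centralizer
        (inf_le_left.trans ((elemAb_le_centralizer h.elem).trans (centralizer_le hB))))
    rw [← inf_relIndex_right (centralizer (K : Set G)), ← e] at *
    rw [e2]
    exact relIndex_le_of_le_left (le_sup_of_le_right (le_inf (inf_le_right.trans inf_le_left)
      inf_le_left)) index_ne_zero_of_finite
  by_cases hi : 2 < (centralizer (K : Set G)).relIndex (A ⊓ normalizer (K : Set G))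
  · obtain ⟨t, ht, p, hp, hp2, y, hy, hyc, hyp, h3, h4⟩ := hF _ inf_le_right (fun a ha => h.sq ha.1) hi
    obtain ⟨j, h5, h6, h7⟩ := key t ht.1 p hp hp2 y hy hyc
      (hZ' t ht.1 _ (pow_mem hy p) hyp (by rw [← conj_pow, h3, inv_pow])) h3
    exact h4 j h5 h7 h6
  obtain ⟨t, ht, htc⟩ := SetLike.not_le_iff_exists.1 hN
  let H := K ⊔ zpowers t
  have hKH : IsComponent (K.subgroupOf H) := Comp.comp_subgroupOf hK le_sup_left
  obtain ⟨g, y, hy, h1, h3, h4⟩ := Invol.exists_inverted_of_not_mem_pCore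
    (t := (⟨t, mem_sup_right (mem_zpowers t)⟩ : H)) (Subtype.ext (h.sq ht.1)) fun hm =>
      htc fun k hk => congrArg Subtype.val (Comp.pCore_le_centralizer_layer 2 hm
        ⟨k, mem_sup_left hk⟩ (Comp.comp_le_layer hKH hk))
  obtain ⟨p, hp, hp2, z, hz, ho, h5⟩ := exists_prime_inv h1 h3 h4
  have hzK : (z : G) ∈ K := by
    refine zpowers_le.2 (zpowers_le (H := K.subgroupOf H).2 ?_ hy) hz
    obtain ⟨k, hk, s, hs, e⟩ := (mem_sup_iff_of_right_le_normalizer (zpowers_le.2 ht.2)).1 g.2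
    change t * (g * t * (g : G)⁻¹) ∈ K
    obtain ⟨n, rfl⟩ := mem_zpowers_iff.1 hs
    rw [e, show t * (k * t ^ n * t * (k * t ^ n)⁻¹) = t * k * t⁻¹ * (t * t) * k⁻¹ by group,
      h.sq ht.1, mul_one]
    exact mul_mem (conj_mem_of_mem_normalizer ht.2 hk) (inv_mem hk)
  have h6 : t * z * t⁻¹ = (z : G)⁻¹ := congrArg Subtype.val h5
  have ho' : orderOf (z : G) = p := by rw [orderOf_coe, ho]
  obtain ⟨j, h7, h8, h9⟩ := key t ht.1 p hp hp2 z hzK (fun hc => hp.one_lt.ne' (by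
    rw [← ho', hZ' t ht.1 z hzK hc h6, orderOf_one])) (ho' ▸ pow_orderOf_eq_one _) h6
  exact hi (h.three hp ho' h6 h7 h8 h9)

theorem sq_le_of_cent (hf : KL f) (h3 : ¬ Involves (Perm (Fin 3)) G)
    (hc : centralizer (pPrimeCore 2 G : Set G) ≤ pPrimeCore 2 G) (hA : IsElementaryAbelian 2 A) :
    Nat.card A ^ 2 * f A ≤ f ⊥ := by
  by_contra hn
  obtain ⟨A, h⟩ := exists_bad hf h3 hA (not_le.1 hn)
  exact h.not_le_core ((le_centralizer_iff.1 h.cent_core).trans hc)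

theorem sq_le (hf : KL f) (h3 : ¬ Involves (Perm (Fin 3)) G) (h2 : pCore 2 G = ⊥)
    (hK : ∀ K : Subgroup G, IsComponent K → CF K) (hA : IsElementaryAbelian 2 A) :
    Nat.card A ^ 2 * f A ≤ f ⊥ := by
  by_contra hn
  obtain ⟨A, h⟩ := exists_bad hf h3 hA (not_le.1 hn)
  have hF := Core.fittingSubgroup_le_pPrimeCore_of_pCore_eq_bot Nat.prime_two h2
  refine h.not_le_core ((le_centralizer_iff.1 (sup_le ?_ (hF.trans h.cent_core))).trans
    (Comp.centralizer_fstar_le_fit.trans hF))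
  exact Comp.layer_le_iff.2 fun K hK' => le_centralizer_iff.1 (h.le_cent_comp h2 hK' (hK K hK'))

end CfsgLib.S4Cor
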