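import Mathlib
import Cfsg.Agent.Lib.S4Cor.Basic
import Cfsg.Agent.Lib.Sz.Aut
import Cfsg.Agent.Lib.Core.Frattini
import Cfsg.Agent.Lib.Core.MinNormal
import Cfsg.Agent.Lib.Coprime.Aut
import Cfsg.Agent.Lib.HH.BG3
import Cfsg.Agent.Lib.BG.AmbCore
import Cfsg.Agent.Lib.FT.OddOrder

/-! Automorphisms of order three of groups of order prime to three that fix no involution. -/

set_option autoImplicit false

namespace CfsgLib.S4Cor

open Subgroup Cfsg CfsgLib.Sz CfsgLib.Coprime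

universe u

theorem sz_exists_fixed {F : Type*} [Field F] [Finite F] {τ : Tits F} {m : ℕ} (hm : 1 ≤ m)
    (hF : Nat.card F = 2 ^ (2 * m + 1)) {φ : MulAut τ.grp} (h3 : φ ^ 3 = 1) :
    ∃ g, φ g = g ∧ g * g = 1 ∧ g ≠ 1 := by
  have ht := Tits.exists_ne_zero_one' hm hF
  have hn : (MulAut.conj : τ.grp →* MulAut τ.grp).range.Normal := ⟨by
    rintro _ ⟨x, rfl⟩ ψ
    exact ⟨ψ x, by ext g; simp⟩⟩
  obtain ⟨k, -, hk⟩ := Coprime.exists_conj_smul_le_of_le_sup
    (K := (MulAut.conj : τ.grp →* MulAut τ.grp).range) (A := zpowers φ) (S := τ.fieldAut.range)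
    le_normalizer_of_normal (by
      obtain ⟨x, α, rfl⟩ := Tits.exists_eq_conj_mul_fieldAut ht φ
      exact zpowers_le.2 (mul_mem (mem_sup_left ⟨x, rfl⟩) (mem_sup_right ⟨α, rfl⟩)))
    (by
      rw [Nat.card_zpowers]
      refine Nat.Coprime.coprime_dvd_left (orderOf_dvd_of_pow_eq_one h3) ?_
      exact (Nat.Prime.coprime_iff_not_dvd Nat.prime_three).2 fun h =>
        Tits.not_three_dvd_card hF (h.trans (card_range_dvd _)))
    (Or.inl inferInstance)
  obtain ⟨β, hβ⟩ : k * φ * k⁻¹ ∈ τ.fieldAut.range := hk ⟨φ, mem_zpowers φ, rfl⟩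
  have h1 := τ.fieldAut_S β 0 1
  rw [hβ, map_zero, map_one] at h1
  refine ⟨k⁻¹ (τ.S 0 1), k.injective (by simpa using h1), by rw [← map_mul, τ.S_zero_mul_self, map_one],
    fun h => τ.S_zero_one_ne_one ((map_eq_one_iff _ (k⁻¹).injective).1 h)⟩

variable {G : Type u} [Group G]

/-- an automorphism of order dividing three of a `3'`-group that fixes no involution -/
structure H3 {G : Type*} [Group G] (σ : MulAut G) : Prop where
  three : ¬ 3 ∣ Nat.card G
  pow : ∀ g, σ (σ (σ g)) = g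
  fix : ∀ g, σ g = g → g * g = 1 → g = 1

/-- the induced automorphism of a quotient -/
def quotAut (σ : MulAut G) (N : Subgroup G) [N.Normal] (h : N.map σ.toMonoidHom = N) :
    MulAut (G ⧸ N) := QuotientGroup.congr N N σ h

theorem quotAut_mk (σ : MulAut G) (N : Subgroup G) [N.Normal] (h : N.map σ.toMonoidHom = N) (g : G) :
    quotAut σ N h (QuotientGroup.mk' N g) = QuotientGroup.mk' N (σ g) := rfl

/-- the induced automorphism of a subgroup -/
def subAut (σ : MulAut G) (N : Subgroup G) (h : N.map σ.toMonoidHom = N) : MulAut N :=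
  (σ.subgroupMap N).trans (MulEquiv.subgroupCongr h)

theorem coe_subAut (σ : MulAut G) (N : Subgroup G) (h : N.map σ.toMonoidHom = N) (g : N) :
    N.subtype (subAut σ N h g) = σ (N.subtype g) := rfl

theorem char_map (σ : MulAut G) (N : Subgroup G) [h : N.Characteristic] : N.map σ.toMonoidHom = N :=
  characteristic_iff_map_eq.1 h σ

variable [Finite G] {σ : MulAut G}

omit [Finite G] in
theorem H3.pow_eq (h : H3 σ) : σ ^ 3 = 1 := by
  ext g
  simpa [pow_succ] using h.pow g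

theorem H3.coprime (h : H3 σ) : (Nat.card (zpowers σ)).Coprime (Nat.card G) := by
  rw [Nat.card_zpowers]
  exact Nat.Coprime.coprime_dvd_left (orderOf_dvd_of_pow_eq_one h.pow_eq)
    ((Nat.Prime.coprime_iff_not_dvd Nat.prime_three).2 h.three)

theorem H3.exists_fix (h : H3 σ) {G' : Type*} [Group G'] (f : G →* G') {σ' : G' → G'}
    (hf : ∀ g, σ' (f g) = f (σ g)) {g : G} (hg : f (σ g) = f g) : ∃ c, σ c = c ∧ f c = f g := by
  classical
  have := Fintype.ofFinite (f ⁻¹' {f g})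
  have : Fact (Nat.Prime 3) := ⟨Nat.prime_three⟩
  have hm : ∀ x ∈ f ⁻¹' {f g}, σ x ∈ f ⁻¹' {f g} := fun x hx => by
    change f (σ x) = f g
    rw [← hf, show f x = f g from hx, hf, hg]
  let ρ : Equiv.Perm (f ⁻¹' {f g}) := Equiv.Perm.subtypePerm σ.toEquiv fun x =>
    ⟨fun hx => h.pow x ▸ hm _ (hm _ hx), hm x⟩
  obtain ⟨c, hc⟩ := Equiv.Perm.exists_fixed_point_of_prime (p := 3) (n := 1) (σ := ρ) (by
    rw [← Nat.card_eq_fintype_card, Nat.card_congr (f.fiberEquivKer g)]
    exact fun h3 => h.three (h3.trans (card_subgroup_dvd_card _))) (by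
    ext x
    exact h.pow x)
  exact ⟨c, congrArg Subtype.val hc, c.2⟩

theorem H3.odd_orderOf (h : H3 σ) {c : G} (hc : σ c = c) : Odd (orderOf c) := by
  by_contra ho
  obtain ⟨k, hk⟩ := Nat.not_odd_iff_even.1 ho
  have h1 := h.fix (c ^ k) (by rw [map_pow, hc]) (by rw [← pow_add, ← hk, pow_orderOf_eq_one])
  have h2 := orderOf_pos c
  have := Nat.le_of_dvd (by omega) (orderOf_dvd_of_pow_eq_one h1)
  omega

theorem H3.of_surj (h : H3 σ) {G' : Type*} [Group G'] {f : G →* G'} (hs : Function.Surjective f)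
    {σ' : MulAut G'} (hf : ∀ g, σ' (f g) = f (σ g)) : H3 σ' where
  three h3 := h.three (h3.trans (card_dvd_of_surjective f hs))
  pow g := by
    obtain ⟨g, rfl⟩ := hs g
    rw [hf, hf, hf, h.pow]
  fix g h1 h2 := by
    obtain ⟨g, rfl⟩ := hs g
    obtain ⟨c, hc, e⟩ := h.exists_fix f hf (g := g) (by rw [← hf, h1])
    rw [← e] at h2 ⊢
    obtain ⟨k, hk⟩ := h.odd_orderOf hc
    have := congrArg f (pow_orderOf_eq_one c)
    rwa [map_pow, hk, pow_succ, pow_mul, pow_two, h2, one_pow, one_mul, map_one] at this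

omit [Finite G] in
theorem H3.of_inj (h : H3 σ) {G' : Type*} [Group G'] {f : G' →* G} (hi : Function.Injective f)
    {σ' : MulAut G'} (hf : ∀ g, f (σ' g) = σ (f g)) : H3 σ' where
  three h3 := h.three (h3.trans (card_dvd_of_injective f hi))
  pow g := hi (by rw [hf, hf, hf, h.pow])
  fix g h1 h2 := hi (by
    rw [map_one]
    exact h.fix _ (by rw [← hf, h1]) (by rw [← map_mul, h2, map_one]))

theorem H3.quot (h : H3 σ) (N : Subgroup G) [N.Normal] (hN : N.map σ.toMonoidHom = N) :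
    H3 (quotAut σ N hN) := h.of_surj (QuotientGroup.mk'_surjective N) (quotAut_mk σ N hN)

theorem H3.isSolvable (hT : T3.{u}) (h : H3 σ) : Group.IsSolvable G := by
  generalize hn : Nat.card G = n
  induction n using Nat.strong_induction_on generalizing G with
  | _ n ih =>
  subst hn
  by_cases hex : ∃ N : Subgroup G, N.Normal ∧ N.map σ.toMonoidHom = N ∧ N ≠ ⊥ ∧ N ≠ ⊤
  · obtain ⟨N, hN, h1, h2, h3⟩ := hex
    have := ih _ ?_ (h.of_inj N.subtype_injective (coe_subAut σ N h1)) rfl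
    · have := ih _ ?_ (h.quot N h1) rfl
      · exact (Group.isSolvable_iff_subgroup_quotient N).2 ⟨inferInstance, inferInstance⟩
      · rw [← N.card_mul_index]
        exact (Nat.lt_mul_iff_one_lt_left Nat.card_pos).2 ((one_lt_card_iff_ne_bot N).2 h2)
    · rw [← N.card_mul_index]
      exact (Nat.lt_mul_iff_one_lt_right Nat.card_pos).2 (one_lt_index_of_ne_top h3)
  push Not at hex
  by_contra hs
  have hF : ∀ N : Subgroup G, N.Normal → Group.IsSolvable N → N = ⊥ := fun N _ _ => by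
    by_contra h1
    have := Core.fittingSubgroup_characteristic G
    have h2 := hex (fittingSubgroup G) inferInstance (char_map σ _) fun e =>
      Core.fittingSubgroup_inf_ne_bot_of_isSolvable h1 (by rw [e, bot_inf_eq])
    have := Core.fittingSubgroup_eq_top_iff.1 h2
    exact hs inferInstance
  have h0 : (⊤ : Subgroup G) ≠ ⊥ := fun e => hs (by
    have : Subsingleton G := (Subgroup.subsingleton_iff (G := G)).1 (subsingleton_iff_bot_eq_top.1 e.symm)
    infer_instance)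
  obtain ⟨K, hK, hK1, -, hmin⟩ := Core.exists_minimal_normal_le h0
  by_cases hKσ : K.map σ.toMonoidHom = K
  · obtain rfl := hex K hK hKσ hK1
    have : Nontrivial G := (Subgroup.nontrivial_iff (G := G)).1 ⟨⊤, ⊥, h0⟩
    have hsimp : IsSimpleGroup G := ⟨fun N hN => hmin N hN le_top⟩
    obtain ⟨F, _, _, m, hm, hF, ⟨e⟩⟩ := sz_model (hT G hsimp
      (fun hc => hs (Group.isSolvable_of_comm hc.is_comm.comm)) h.three)
    have h' : H3 ((e.symm.trans σ).trans e : MulAut (tits hF).grp) :=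
      h.of_surj (f := e.toMonoidHom) e.surjective fun g => by simp
    obtain ⟨g, h1, h2, h3⟩ := sz_exists_fixed hm (by rwa [Nat.card_eq_fintype_card]) h'.pow_eq
    exact h3 (h'.fix g h1 h2)
  · have key : ∀ ρ : MulAut G, K.map ρ.toMonoidHom ≠ K → ∀ a ∈ K, ∀ b ∈ K, Commute a (ρ b) := by
      intro ρ hρ a ha b hb
      have hn : (K.map ρ.toMonoidHom).Normal := hK.map _ ρ.surjective
      refine commute_of_normal_of_disjoint K (K.map ρ.toMonoidHom) hK hn ?_ a _ ha ⟨b, hb, rfl⟩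
      rcases hmin (K ⊓ K.map ρ.toMonoidHom) inferInstance inf_le_left with e | e
      · exact disjoint_iff.2 e
      · exact absurd (eq_of_le_of_card_ge (inf_eq_left.1 e)
          (card_map_of_injective ρ.injective).le).symm hρ
    have c1 := key σ hKσ
    have c2 := key (σ * σ) fun e => hKσ (by
      have := congrArg (Subgroup.map σ.toMonoidHom) e
      rw [map_map] at this
      rw [← this]
      conv_rhs => rw [← Subgroup.map_id K]
      congr 1
      ext g
      exact h.pow g)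
    have he : 2 ∣ Nat.card K := by
      by_contra ho
      exact hK1 (hF K hK (FT.odd_order_solvable (Nat.odd_iff.2 (by omega))))
    obtain ⟨⟨k, hk⟩, ho⟩ := exists_prime_orderOf_dvd_card' 2 he
    have hk2 : k * k = 1 := by
      have := congrArg Subtype.val (pow_orderOf_eq_one (⟨k, hk⟩ : K))
      rwa [ho, pow_two] at this
    have c3 : Commute (σ k) (σ (σ k)) := (c1 k hk k hk).map σ
    have c4 : Commute k (σ k * σ (σ k)) := (c1 k hk k hk).mul_right (c2 k hk k hk)
    have hd := h.fix (k * (σ k * σ (σ k))) (by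
      rw [map_mul, map_mul, h.pow, ← mul_assoc, c4.eq]) (by
      rw [c4.symm.mul_mul_mul_comm, c3.symm.mul_mul_mul_comm, ← map_mul σ k k, ← map_mul σ (σ k) (σ k),
        ← map_mul σ k k, hk2]
      simp)
    have hZ := hF (K ⊓ centralizer (K : Set G)) inferInstance (Group.isSolvable_of_comm fun a b =>
      Subtype.ext (b.2.2 a a.2.1))
    have : k ∈ K ⊓ centralizer (K : Set G) := ⟨hk, fun a ha => by
      have := ((c1 a ha k hk).mul_right (c2 a ha k hk)).inv_right
      rw [eq_inv_of_mul_eq_one_left hd]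
      exact this.eq⟩
    rw [hZ, mem_bot] at this
    subst this
    have : (⟨1, hk⟩ : K) = 1 := rfl
    simp [this] at ho

theorem autInv_zpowers {K : Subgroup G} (h : ∀ x ∈ K, σ x ∈ K) : AutInv (zpowers σ).subtype K := by
  rintro ⟨a, ha⟩ x hx
  obtain ⟨n, rfl⟩ := mem_powers_iff_mem_zpowers.2 ha
  change (σ ^ n) x ∈ K
  clear ha
  induction n with
  | zero => exact hx
  | succ n ih => rw [pow_succ']; exact h _ ih

theorem H3.comm_elem (h : H3 σ) {V K : Subgroup G} [V.Normal] (hV : IsElementaryAbelian 2 V)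
    (hVσ : ∀ x ∈ V, σ x ∈ V) (hK : Odd (Nat.card K)) (hKσ : ∀ x ∈ K, σ x ∈ K) {k v : G}
    (hk : k ∈ K) (hv : v ∈ V) : v * (k⁻¹ * σ k) = k⁻¹ * σ k * v := by
  by_cases h1 : σ = 1
  · simp [h1]
  have : Fact (Nat.Prime 3) := ⟨Nat.prime_three⟩
  set φ := (zpowers σ).subtype with hφ
  have := finite_sd (φ := φ)
  have hc : Nat.card (sdR φ ⊤) = 3 := by
    rw [card_sdR, card_top, Nat.card_zpowers, orderOf_eq_prime h.pow_eq h1]
  have h2 := HH.bg34 (K := sdL φ K) (R := sdR φ ⊤) (V := sdL φ V) Nat.prime_two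
    ⟨by have := hV.1; exact map_isMulCommutative _ _, by
      rintro _ ⟨a, ha, rfl⟩
      rw [← map_pow, hV.2 a ha, map_one]⟩
    (sdL_le_normalizer_iff.2 le_normalizer_of_normal) ((autInv_zpowers hVσ).sdR_le ⊤)
    ((autInv_zpowers hKσ).sdR_le ⊤) (hc ▸ Nat.prime_three)
    (coprime_sd (coprime_subgroup h.coprime K)) (by rw [card_sdL]; exact hK.not_two_dvd_nat)
    (Or.inl (by rwa [card_sdL])) (by
      rw [sdL_inf_centralizer, ← sdL_bot, sdL_inj, eq_bot_iff]
      exact fun x hx => h.fix x (hx.2 ⟨σ, mem_zpowers σ⟩) (by rw [← pow_two, hV.2 x hx.1]))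
  rw [commutator_comm, commutator_sdL_sdR] at h2
  have h3 := h2 (inl_mem_sdL.2 (mem_autComm ⟨σ, mem_zpowers σ⟩ hk)) _ (inl_mem_sdL.2 hv)
  rw [← map_mul, ← map_mul] at h3
  exact SemidirectProduct.inl_injective h3

theorem H3.fix_of_odd (h : H3 σ) (hC : centralizer (pCore 2 G : Set G) ≤ pCore 2 G) {K : Subgroup G}
    (hK : Odd (Nat.card K)) (hKσ : ∀ x ∈ K, σ x ∈ K) {k : G} (hk : k ∈ K) : σ k = k := by
  have := Core.pCore_characteristic 2 G
  have hQ := Core.isPGroup_pCore 2 G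
  set Q := pCore 2 G with hQe
  let Φ := (frattini Q).map Q.subtype
  have hΦ : Φ.map σ.toMonoidHom = Φ := by
    rw [Core.map_map_frattini_of_injective Q σ.injective, char_map]
  let f := QuotientGroup.mk' Φ
  have hf := QuotientGroup.mk'_surjective Φ
  have hn : (Q.map f).Normal := Normal.map inferInstance f hf
  have hd : k⁻¹ * σ k ∈ K := mul_mem (inv_mem hk) (hKσ k hk)
  have hV : IsElementaryAbelian 2 (Q.map f) := by
    refine ⟨commutator_self_eq_bot_iff.1 ?_, ?_⟩
    · rw [← map_commutator, Subgroup.map_eq_bot_iff, QuotientGroup.ker_mk', ← map_subtype_commutator]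
      exact map_mono (Core.commutator_le_frattini_of_isPGroup hQ)
    · rintro _ ⟨a, ha, rfl⟩
      rw [← map_pow]
      exact (QuotientGroup.eq_one_iff _).2 ⟨_, Core.pow_mem_frattini_of_isPGroup hQ ⟨a, ha⟩, rfl⟩
  have h1 : ∀ v ∈ Q, f v * f (k⁻¹ * σ k) = f (k⁻¹ * σ k) * f v := fun v hv =>
    (h.quot Φ hΦ).comm_elem hV (K := K.map f) (by
      rintro _ ⟨a, ha, rfl⟩
      exact ⟨σ a, char_map σ Q ▸ ⟨a, ha, rfl⟩, rfl⟩) (hK.of_dvd_nat (card_map_dvd _ _)) (by
      rintro _ ⟨a, ha, rfl⟩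
      exact ⟨σ a, hKσ a ha, rfl⟩) ⟨k, hk, rfl⟩ ⟨v, hv, rfl⟩
  have hco : (Nat.card K).Coprime (Nat.card Q) := by
    obtain ⟨n, hn⟩ := hQ.exists_card_eq
    rw [hn]
    exact (Nat.coprime_two_right.2 hK).pow_right n
  have h2 := le_centralizer_of_commutator_le_frattini (K := Q) (A := zpowers (k⁻¹ * σ k))
    ((hco.coprime_dvd_left (card_dvd_of_le (zpowers_le.2 hd))).coprime_dvd_right
      (card_subgroup_dvd_card _)) (by
      change _ ≤ Φ
      rw [← QuotientGroup.ker_mk' Φ, ← Subgroup.map_eq_bot_iff, map_commutator, MonoidHom.map_zpowers,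
        commutator_eq_bot_iff_le_centralizer, Core.centralizer_zpowers]
      rintro _ ⟨v, hv, rfl⟩
      exact mem_centralizer_singleton_iff.2 (h1 v hv))
  have h3 : k⁻¹ * σ k ∈ K ⊓ Q := ⟨hd, hC (h2 (mem_zpowers _))⟩
  rw [disjoint_iff.1 (disjoint_of_coprime_natCard hco), mem_bot, inv_mul_eq_one] at h3
  exact h3.symm

theorem H3.mem_pCore (h : H3 σ) [hs : Group.IsSolvable G] (hO : pPrimeCore 2 G = ⊥) (g : G) :
    g⁻¹ * σ g ∈ pCore 2 G := by
  have := Core.pCore_characteristic 2 G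
  obtain ⟨K, hK, hKσ, -⟩ := aut_exists_invariant_isPiHallOf_ge (φ := (zpowers σ).subtype) (π := {2}ᶜ)
    autInv_top (coprime_subgroup h.coprime ⊤) inferInstance bot_le autInv_bot
    (fun p hp hd => absurd (card_bot (G := G) ▸ hd) hp.not_dvd_one)
  have hodd : Odd (Nat.card K) :=
    Nat.odd_iff.2 (by have := (BG.p'group_iff Nat.prime_two).1 hK.2.1; omega)
  have hfix : ∀ k ∈ K, σ k = k := fun k hk =>
    h.fix_of_odd (Core.centralizer_pCore_le_of_isSolvable Nat.prime_two hO) hodd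
      (hKσ ⟨σ, mem_zpowers σ⟩) hk
  let f := QuotientGroup.mk' (pCore 2 G)
  have hf := QuotientGroup.mk'_surjective (pCore 2 G)
  have h' := h.quot (pCore 2 G) (char_map σ _)
  set ρ := quotAut σ (pCore 2 G) (char_map σ _) with hρ
  have hF := Core.fittingSubgroup_normal (G ⧸ pCore 2 G)
  have hH : IsPiHallOf {2}ᶜ (K.map f) ⊤ := BG.pHall_intro le_top
    (BG.IsPiNat.of_dvd hK.2.1 (card_map_dvd _ _)) (by
      have := BG.pHall_index hK
      rw [relIndex_top_right] at this ⊢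
      exact this.of_dvd (index_map_dvd _ hf))
  have hFK : fittingSubgroup (G ⧸ pCore 2 G) ≤ K.map f :=
    BG.normal_sub_Hall hH (BG.normalIn_top.2 hF) (BG.pigroupS
      (Core.fittingSubgroup_le_pPrimeCore_of_pCore_eq_bot Nat.prime_two (Core.pCore_quotient_pCore 2 G))
      ((BG.p'group_iff Nat.prime_two).2 (Core.not_dvd_card_pPrimeCore Nat.prime_two _)))
  have hfix' : ∀ x ∈ fittingSubgroup (G ⧸ pCore 2 G), ρ x = x := fun x hx => by
    obtain ⟨k, hk, rfl⟩ := hFK hx
    rw [quotAut_mk, hfix k hk]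
  have key : ∀ y, y⁻¹ * ρ y = 1 := fun y => by
    have h1 : y⁻¹ * ρ y ∈ fittingSubgroup (G ⧸ pCore 2 G) :=
      Core.centralizer_fittingSubgroup_le fun x hx => by
        have h2 := hfix' _ (hF.conj_mem x hx y)
        rw [map_mul, map_mul, map_inv, hfix' x hx] at h2
        calc x * (y⁻¹ * ρ y) = y⁻¹ * (y * x * y⁻¹) * ρ y := by group
          _ = y⁻¹ * ρ y * x := by rw [← h2]; group
    have h2 := hfix' _ h1
    set d := y⁻¹ * ρ y with hd
    have h3 : ρ y = y * d := by rw [hd, mul_inv_cancel_left]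
    have h4 := h'.pow y
    rw [h3, map_mul, h3, h2, map_mul, map_mul, h3, h2, mul_assoc, mul_assoc, mul_eq_left] at h4
    have h5 : orderOf d ∣ 3 := orderOf_dvd_of_pow_eq_one (by rw [pow_succ', pow_two, h4])
    rcases (Nat.dvd_prime Nat.prime_three).1 h5 with e | e
    · exact orderOf_eq_one_iff.1 e
    · exact absurd (e ▸ orderOf_dvd_natCard d) h'.three
  exact (QuotientGroup.eq_one_iff _).1 (key (f g))

theorem H3.main (hT : T3.{u}) (h : H3 σ) : Group.IsSolvable G ∧ ¬ 2 ∣ (pPrimePCore 2 G).index ∧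
    pPrimePCore 2 G ⊔ closure {g : G | σ g = g} = ⊤ := by
  have hs := h.isSolvable hT
  have := Core.pPrimeCore_characteristic 2 G
  have := Core.pCore_characteristic 2 (G ⧸ pPrimeCore 2 G)
  have hn : (pPrimePCore 2 G).Normal := normal_comap _
  have h1 : ∀ g, g⁻¹ * σ g ∈ pPrimePCore 2 G := fun g =>
    (h.quot _ (char_map σ _)).mem_pCore (Core.pPrimeCore_quotient_pPrimeCore 2 G)
      (QuotientGroup.mk' _ g)
  have h2 : ∀ g, (1 : MulAut _) (QuotientGroup.mk' (pPrimePCore 2 G) g) =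
      QuotientGroup.mk' (pPrimePCore 2 G) (σ g) := fun g => QuotientGroup.eq.2 (h1 g)
  refine ⟨hs, fun h3 => ?_, eq_top_iff.2 fun g _ => ?_⟩
  · obtain ⟨t, ht⟩ := exists_prime_orderOf_dvd_card' (G := G ⧸ pPrimePCore 2 G) 2 h3
    have := (h.of_surj (QuotientGroup.mk'_surjective _) h2).fix t rfl (by
      have := pow_orderOf_eq_one t
      rwa [ht, pow_two] at this)
    simp [this] at ht
  · obtain ⟨c, hc, e⟩ := h.exists_fix _ h2 (g := g) (h2 g).symm
    have := mul_mem (mem_sup_right (S := pPrimePCore 2 G) (subset_closure (k := {g : G | σ g = g}) hc))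
      (mem_sup_left (QuotientGroup.eq.1 e))
    rwa [mul_inv_cancel_left] at this

theorem h3_of_s3 (h3 : ¬ 3 ∣ Nat.card G) {Sig : Subgroup (MulAut G)} (e : Sig ≃* Equiv.Perm (Fin 3))
    (hfpf : ∀ g : G, (∀ σ ∈ Sig, σ g = g) → g = 1) (hσ : σ ∈ Sig) (ho : orderOf σ = 3) : H3 σ := by
  have hp : σ ^ 3 = 1 := ho ▸ pow_orderOf_eq_one σ
  refine ⟨h3, fun g => by simpa [pow_succ] using MulEquiv.congr_fun hp g, fun g hg h2 => ?_⟩
  have key0 : ∀ s : Equiv.Perm (Fin 3), s ≠ 1 → s ^ 3 = 1 →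
      s * Equiv.swap 0 1 = Equiv.swap 0 1 * (s * s) := by decide
  have key1 : ∀ s : Equiv.Perm (Fin 3), s ≠ 1 → s ^ 3 = 1 → ∀ a : Equiv.Perm (Fin 3),
      a ∈ [1, s, s * s, Equiv.swap 0 1, Equiv.swap 0 1 * s, Equiv.swap 0 1 * (s * s)] := by decide
  have key : ∀ s : Equiv.Perm (Fin 3), s ≠ 1 → s ^ 3 = 1 → ∃ t, t * t = 1 ∧ s * t = t * (s * s) ∧
      ∀ a, a = 1 ∨ a = s ∨ a = s * s ∨ a = t ∨ a = t * s ∨ a = t * (s * s) := fun s h1 h2 =>
    ⟨_, Equiv.swap_mul_self 0 1, key0 s h1 h2, fun a => by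
      simpa only [List.mem_cons, List.not_mem_nil, or_false] using key1 s h1 h2 a⟩
  obtain ⟨t, h1, h4, h5⟩ := key (e ⟨σ, hσ⟩)
    (fun h => by
      have : σ = 1 := congrArg Subtype.val ((map_eq_one_iff _ e.injective).1 h)
      simp [this] at ho)
    (by rw [← map_pow, show (⟨σ, hσ⟩ : Sig) ^ 3 = 1 from Subtype.ext hp, map_one])
  obtain ⟨⟨τ, hτ⟩, rfl⟩ := e.surjective t
  simp only [← map_mul, ← map_one e, e.injective.eq_iff, Subtype.ext_iff, coe_mul, coe_one] at h1 h4
  let C := MonoidHom.eqLocus σ.toMonoidHom (MonoidHom.id G)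
  have hC : ∀ x : C, τ x ∈ C := fun x => by
    have hx : σ x = x := x.2
    have := MulEquiv.congr_fun h4 x
    simp only [MulAut.mul_apply, hx] at this
    exact this
  let ψ : C →* C := (τ.toMonoidHom.comp C.subtype).codRestrict C hC
  have hψ : MonoidHom.FixedPointFree ψ := fun x hx => Subtype.ext (hfpf x fun a ha => by
    have hx1 : σ x = x := x.2
    have hx2 : τ x = x := congrArg Subtype.val hx
    have := h5 (e ⟨a, ha⟩)
    simp only [← map_mul, ← map_one e, e.injective.eq_iff, Subtype.ext_iff, coe_mul, coe_one] at this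
    rcases this with rfl | rfl | rfl | rfl | rfl | rfl <;> simp [hx1, hx2])
  by_contra hg1
  exact hψ.orderOf_ne_two_of_involutive (fun x => Subtype.ext (MulEquiv.congr_fun h1 x)) ⟨g, hg⟩
    (orderOf_eq_prime (Subtype.ext (by simpa [pow_two] using h2)) fun h => hg1 (congrArg Subtype.val h))

theorem s3040 (hT : T3.{u}) (h3 : ¬ 3 ∣ Nat.card G) {Sig : Subgroup (MulAut G)}
    (e : Sig ≃* Equiv.Perm (Fin 3)) (hfpf : ∀ g : G, (∀ σ ∈ Sig, σ g = g) → g = 1) :
    Group.IsSolvable G ∧ ¬ 2 ∣ (pPrimePCore 2 G).index ∧ ∀ σ ∈ Sig, orderOf σ = 3 →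
      pPrimePCore 2 G ⊔ closure {g : G | σ g = g} = ⊤ := by
  have hs : orderOf (finRotate 3) = 3 :=
    have : Fact (Nat.Prime 3) := ⟨Nat.prime_three⟩
    orderOf_eq_prime (by decide) (by decide)
  have h := (h3_of_s3 h3 e hfpf (e.symm (finRotate 3)).2 (by
    rw [orderOf_coe, e.symm.orderOf_eq, hs])).main hT
  exact ⟨h.1, h.2.1, fun σ hσ ho => ((h3_of_s3 h3 e hfpf hσ ho).main hT).2.2⟩

end CfsgLib.S4Cor
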