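import Mathlib
import Cfsg.Agent.Lib.S4Cor.Basic
import Cfsg.Agent.Lib.Sz.Aut
import Cfsg.Agent.Lib.Sz.Solvable
import Cfsg.Agent.Lib.Sz.Mult
import Cfsg.Agent.Lib.Comp.Component
import Cfsg.Agent.Lib.Core.Cores
import Cfsg.Agent.Lib.Coprime.Action

/-! Components of order prime to three and elements of order three with solvable centraliser. -/

set_option autoImplicit false

namespace CfsgLib.S4Cor

open Subgroup Cfsg CfsgLib.Sz

universe u

section
variable {F : Type*} [Field F] [Finite F] {τ : Tits F}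

theorem card_le_eight {β : F ≃+* F} (h3 : β ^ 3 = 1) (h : ∀ t, β t = t → t = 0 ∨ t = 1) :
    Nat.card F ≤ 8 := by
  classical
  have : Finite (F ≃+* F) := Finite.of_injective _ DFunLike.coe_injective
  have := Fintype.ofFinite (zpowers β)
  have h1 := FixedPoints.finrank_le_card (zpowers β) F
  have h2 : Fintype.card (zpowers β) ≤ 3 := by
    rw [← Nat.card_eq_fintype_card, Nat.card_zpowers]
    exact orderOf_le_of_pow_eq_one (by norm_num) h3
  have h4 : Nat.card (FixedPoints.subfield (zpowers β) F) ≤ 2 := by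
    have : (FixedPoints.subfield (zpowers β) F : Set F) ⊆ {0, 1} := fun t ht =>
      h t (ht ⟨β, mem_zpowers β⟩)
    have h5 := Set.ncard_le_ncard this
    rw [Set.ncard_pair zero_ne_one] at h5
    exact h5
  rw [Module.natCard_eq_pow_finrank (K := FixedPoints.subfield (zpowers β) F) (V := F)]
  calc _ ≤ 2 ^ Module.finrank (FixedPoints.subfield (zpowers β) F) F := Nat.pow_le_pow_left h4 _
    _ ≤ 2 ^ 3 := Nat.pow_le_pow_right two_pos (h1.trans h2)

theorem card_le_eight_of_aut {m : ℕ} (hm : 1 ≤ m) (hF : Nat.card F = 2 ^ (2 * m + 1))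
    {φ : MulAut τ.grp} (h3 : φ ^ 3 = 1) {C : Subgroup τ.grp} (hC : Group.IsSolvable C)
    (hfix : ∀ g, φ g = g → g ∈ C) : Nat.card F ≤ 8 := by
  have ht := Tits.exists_ne_zero_one' hm hF
  have hn : (MulAut.conj : τ.grp →* MulAut τ.grp).range.Normal := ⟨by
    rintro _ ⟨x, rfl⟩ ψ
    exact ⟨ψ x, by ext g; simp⟩⟩
  obtain ⟨k, -, hk⟩ := Coprime.exists_conj_smul_le_of_le_sup
    (K := (MulAut.conj : τ.grp →* MulAut τ.grp).range) (A := zpowers φ) (S := τ.fieldAut.range)
    le_normalizer_of_normal (by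
      obtain ⟨x, α, rfl⟩ := Tits.exists_eq_conj_mul_fieldAut ht φ
      exact zpowers_le.2 (mul_mem (mem_sup_left ⟨x, rfl⟩) (mem_sup_right ⟨α, rfl⟩)))
    (by
      rw [Nat.card_zpowers]
      refine Nat.Coprime.coprime_dvd_left (orderOf_dvd_of_pow_eq_one h3) ?_
      exact (Nat.Prime.coprime_iff_not_dvd Nat.prime_three).2 fun h =>
        Tits.not_three_dvd_card hF (h.trans (card_range_dvd _)))
    (Or.inl inferInstance)
  obtain ⟨β, hβ⟩ : k * φ * k⁻¹ ∈ τ.fieldAut.range := hk ⟨φ, mem_zpowers φ, rfl⟩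
  have hβ3 : β ^ 3 = 1 := Tits.eq_one_of_fieldAut_eq_conj (τ := τ) (x := 1) (by
    rw [map_one, map_pow, hβ, conj_pow, h3, mul_one, mul_inv_cancel])
  refine card_le_eight hβ3 fun t h => ?_
  by_contra hn
  push Not at hn
  let E : Subfield F := RingHom.eqLocusField β.toRingHom (RingHom.id F)
  refine Tits.not_isSolvable_sub (τ := τ) (E := E) ⟨t, h, hn⟩ ?_
  have hle : ∀ g : τ.sub E, k⁻¹ (g : τ.grp) ∈ C := fun g => hfix _ (by
    have h1 : τ.fieldAut β g = g := Tits.mat_inj (by
      ext i j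
      exact g.2 i j)
    rw [hβ] at h1
    apply k.injective
    simpa using h1)
  exact Group.isSolvable_of_isSolvable_injective
    (f := ((k⁻¹ : MulAut τ.grp).toMonoidHom.comp (τ.sub E).subtype).codRestrict C hle)
    (fun a b e => Subtype.ext ((k⁻¹ : MulAut τ.grp).injective (congrArg Subtype.val e)))

theorem isCyclic_sylow {m : ℕ} (hm : 1 ≤ m) (hF : Nat.card F = 2 ^ (2 * m + 1)) {p : ℕ}
    [hp : Fact p.Prime] (h2 : p ≠ 2) (P : Sylow p τ.grp) : IsCyclic P := by
  by_cases hP : (P : Subgroup τ.grp) = ⊥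
  · rw [hP]
    infer_instance
  · obtain ⟨n, hn⟩ := P.isPGroup'.exists_card_eq
    obtain ⟨A, hA, hle⟩ := Tits.exists_isTorus_le_of_odd hm hF (hn ▸ (hp.out.odd_of_ne_two h2).pow) hP
    have := hA.cyclic
    exact Subgroup.isCyclic_of_le hle

end

theorem solvable_of_fix {K : Type*} [Group K] (σ : MulAut K) (C : Subgroup K)
    (h : ∀ k ∈ C, σ k * k⁻¹ ∈ center K)
    (hs : Group.IsSolvable (MonoidHom.eqLocus σ.toMonoidHom (MonoidHom.id K))) :
    Group.IsSolvable C := by
  let δ : C →* center K := MonoidHom.mk' (fun k => ⟨σ k * (k : K)⁻¹, h k k.2⟩) fun a b =>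
    Subtype.ext (by
      have := mem_center_iff.1 (h b b.2) (a : K)⁻¹
      simp only [coe_mul, map_mul, mul_inv_rev]
      rw [mul_assoc (σ a) (a : K)⁻¹, this]
      group)
  have : Group.IsSolvable δ.ker := Group.isSolvable_of_isSolvable_injective
    (f := (C.subtype.comp δ.ker.subtype).codRestrict
      (MonoidHom.eqLocus σ.toMonoidHom (MonoidHom.id K))
      fun k => mul_inv_eq_one.1 (congrArg Subtype.val k.2))
    fun a b e => by
      have := congrArg Subtype.val e
      exact Subtype.ext (Subtype.ext this)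
  have : Group.IsSolvable (center K) := Group.isSolvable_of_comm fun a b =>
    Subtype.ext (mem_center_iff.1 b.2 a)
  exact Group.isSolvable_of_ker_le_range δ.ker.subtype δ (by simp)

variable {G : Type u} [Group G] [Finite G]

theorem mem_normalizer_of_comp {K : Subgroup G} (hK : IsComponent K) {y : G} (hy : y ^ 3 = 1)
    (hsol : Group.IsSolvable (centralizer ({y} : Set G))) : y ∈ normalizer (K : Set G) := by
  by_contra hn
  have hy' : y * y * y = 1 := by rw [← hy, pow_succ, pow_two]
  have h1 : ∀ g : G, g ∉ normalizer (K : Set G) → ∀ a ∈ K, ∀ b ∈ K, Commute a (g * b * g⁻¹) :=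
    fun g hg a ha b hb => (Comp.comp_le_centralizer_of_ne hK (Comp.comp_map_conj hK g)
      (fun e => hg (mem_normalizer_iff_map_conj_eq.2 e.symm)) ha _ ⟨b, hb, rfl⟩).symm
  have hy2 : y * y ∉ normalizer (K : Set G) := fun h => hn (by
    have := mul_mem h h
    rwa [← mul_assoc, hy', one_mul] at this)
  have c1 := h1 y hn
  have c2 := h1 _ hy2
  have c3 : ∀ a ∈ K, ∀ b ∈ K, Commute (y * a * y⁻¹) (y * y * b * (y * y)⁻¹) := fun a ha b hb => by
    have := (c1 a ha b hb).map (MulAut.conj y)
    simpa [mul_assoc] using this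
  let d : K →* G := MonoidHom.mk' (fun k => k * ((y * k * y⁻¹) * (y * y * k * (y * y)⁻¹))) fun a b => by
    rw [((c1 b b.2 a a.2).mul_right (c2 b b.2 a a.2)).symm.mul_mul_mul_comm,
      (c3 b b.2 a a.2).symm.mul_mul_mul_comm, conj_mul, conj_mul, coe_mul]
  have hd : ∀ k, d k ∈ centralizer ({y} : Set G) := fun k => by
    rw [mem_centralizer_singleton_iff]
    have e1 : (y * y)⁻¹ = y := inv_eq_of_mul_eq_one_right hy'
    change k * ((y * k * y⁻¹) * (y * y * k * (y * y)⁻¹)) * y =
      y * (k * ((y * k * y⁻¹) * (y * y * k * (y * y)⁻¹)))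
    rw [((c1 k k.2 k k.2).mul_right (c2 k k.2 k k.2)).eq]
    have e2 : y * (k * ((y * k * y⁻¹) * (y * y * k * (y * y)⁻¹))) =
        y * k * y⁻¹ * (y * y * k * (y * y)⁻¹) * (y * y * y * k * (y * y)⁻¹) := by group
    rw [← ((c1 k k.2 k k.2).mul_right (c2 k k.2 k k.2)).eq, e2, hy', one_mul,
      ((c1 k k.2 k k.2).mul_right (c2 k k.2 k k.2)).eq, e1]
    group
  have : Group.IsSolvable (center K) := Group.isSolvable_of_comm fun a b =>
    Subtype.ext (mem_center_iff.1 b.2 a)
  refine Comp.qs_not_isSolvable hK.2 (Group.isSolvable_of_ker_le_range (center K).subtype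
    (d.codRestrict _ hd) fun k hk => ⟨⟨k, mem_center_iff.2 fun a => Subtype.ext ?_⟩, rfl⟩)
  have h2 : (k : G) * ((y * k * y⁻¹) * (y * y * k * (y * y)⁻¹)) = 1 := congrArg Subtype.val hk
  have h3 := ((c1 a a.2 k k.2).mul_right (c2 a a.2 k k.2)).inv_right
  rw [← eq_inv_of_mul_eq_one_left h2] at h3
  exact h3.eq

theorem s2976 (hT : T3.{u}) {K : Subgroup G} (hK : IsComponent K) (h3 : ¬ 3 ∣ Nat.card K) {y : G}
    (hy : y ^ 3 = 1) (hsol : Group.IsSolvable (centralizer ({y} : Set G))) :
    (∃ (F : Type) (_ : Field F) (_ : Fintype F), Fintype.card F = 8 ∧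
      Nonempty (K ⧸ center K ≃* Lie.Sz F 4)) ∧ y ∈ normalizer (K : Set G) ∧
      (pCore 2 G = ⊥ → IsSimpleGroup K) := by
  have hn := mem_normalizer_of_comp hK hy hsol
  obtain ⟨F, _, _, m, hm, hF, ⟨e⟩⟩ := sz_model (hT _ hK.2.2
    (Comp.qs_quotient_center_not_isMulCommutative hK.2)
    fun h => h3 (h.trans (card_quotient_dvd_card _)))
  have hF' : Nat.card F = 2 ^ (2 * m + 1) := by rwa [Nat.card_eq_fintype_card]
  let σ : MulAut K := K.normalizerMonoidHom ⟨y, hn⟩
  have hσ : σ ^ 3 = 1 := by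
    rw [← map_pow, show (⟨y, hn⟩ : normalizer (K : Set G)) ^ 3 = 1 from Subtype.ext hy, map_one]
  let f : K →* (tits hF).grp := e.toMonoidHom.comp (QuotientGroup.mk' _)
  have hf : Function.Surjective f := e.surjective.comp (QuotientGroup.mk'_surjective _)
  have hker : f.ker = center K := by
    ext k
    simp [f]
  let φ : MulAut (tits hF).grp := (e.symm.trans (QuotientGroup.congr (center K) (center K) σ
    (characteristic_iff_map_eq.1 inferInstance σ))).trans e
  have hφ : ∀ k, φ (f k) = f (σ k) := fun k => by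
    simp [φ, f]
    rfl
  have h8 : Nat.card F ≤ 8 := by
    let C := MonoidHom.eqLocus φ.toMonoidHom (MonoidHom.id _)
    refine card_le_eight_of_aut hm hF' (φ := φ) ?_ (C := C) ?_ fun g hg => hg
    · ext1 g
      obtain ⟨k, rfl⟩ := hf g
      have := MulEquiv.congr_fun hσ k
      simp only [pow_succ, pow_zero, one_mul, MulAut.mul_apply, MulAut.one_apply] at this ⊢
      rw [hφ, hφ, hφ, this]
    · have h1 : Group.IsSolvable (C.comap f) := by
        refine solvable_of_fix σ _ (fun k hk => ?_) ?_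
        · rw [← hker, MonoidHom.mem_ker, map_mul, map_inv, ← hφ, mul_inv_eq_one]
          exact hk
        · exact Group.isSolvable_of_isSolvable_injective
            (f := (K.subtype.comp (Subgroup.subtype _)).codRestrict (centralizer ({y} : Set G))
              fun k => mem_centralizer_singleton_iff.2
                (mul_inv_eq_iff_eq_mul.1 (congrArg Subtype.val k.2)).symm)
            fun a b e => by
              have := congrArg Subtype.val e
              exact Subtype.ext (Subtype.ext this)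
      exact Group.isSolvable_of_surjective (f := f.subgroupComap C)
        (MonoidHom.subgroupComap_surjective_of_surjective f C hf)
  obtain rfl : m = 1 := by
    by_contra h
    have := Nat.pow_le_pow_right two_pos (show 5 ≤ 2 * m + 1 by omega)
    omega
  refine ⟨⟨F, _, _, hF, ⟨e.trans (lieSzEquiv hF)⟩⟩, hn, fun h2 => ?_⟩
  have hz : center K = ⊥ := by
    by_contra hz
    obtain ⟨p, hp, hd⟩ := Nat.exists_prime_and_dvd (fun h => hz (card_eq_one.1 h))
    have := Fact.mk hp
    by_cases hp2 : p = 2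
    · subst hp2
      obtain ⟨z, hz⟩ := exists_prime_orderOf_dvd_card' 2 hd
      have hN : (zpowers (z : K)).Normal := ⟨fun n hn g => by
        rw [mem_center_iff.1 (zpowers_le.2 z.2 hn) g, mul_inv_cancel_right]
        exact hn⟩
      have h4 := (map_mono (f := K.subtype) (Core.le_pCore (N := zpowers (z : K))
        (IsPGroup.of_card (n := 1) (by rw [Nat.card_zpowers, orderOf_coe, hz, pow_one])))).trans
        (Core.map_pCore_le_of_isSubnormal (p := 2) hK.1)
      rw [h2] at h4
      have h5 : z = 1 := Subtype.ext (Subtype.ext (mem_bot.1 (h4 ⟨z, mem_zpowers _, rfl⟩)))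
      simp [h5] at hz
    · obtain ⟨P⟩ : Nonempty (Sylow p (tits hF).grp) := inferInstance
      have := isCyclic_sylow hm hF' hp2 P
      refine Schur.IsCentralExt.not_dvd_card_stemKer_of_isCyclic (σ := f) ⟨hf, hker.le⟩ P ?_
      rwa [Schur.stemKer, hker, hK.2.1.commutator_eq_top, inf_top_eq]
  have := hK.2.2
  exact (QuotientGroup.quotientBot.symm.trans
    (QuotientGroup.quotientMulEquivOfEq hz.symm)).isSimpleGroup

end CfsgLib.S4Cor
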