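import Mathlib
import Cfsg.Agent.Lib.S4Cor.Off2
import Cfsg.Agent.Lib.S4Cor.Basic
import Cfsg.Agent.Lib.Sz.Aut
import Cfsg.Agent.Lib.Spec.Zsig
import Cfsg.Agent.Lib.GW.KPSLb
import Cfsg.Agent.Lib.Dickson.MinSimple
import Cfsg.Agent.S0809
import Cfsg.Agent.S0812

/-! `|V : C_V(A)| ≥ |A|²` for `S₃`-free groups: the components. -/

set_option autoImplicit false

namespace CfsgLib.S4Cor

open Subgroup Cfsg CfsgLib.PLocal CfsgLib.Sz CfsgLib.Dickson CfsgLib.GW.KP Equiv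
open scoped commutatorElement MatrixGroups

universe u

/-- Elementary abelian groups of automorphisms invert elements of large prime order. -/
def KF (X : Type*) [Group X] : Prop :=
  ∀ E : Subgroup (MulAut X), (∀ e ∈ E, e * e = 1) → 2 < Nat.card E →
    ∃ t ∈ E, ∃ p : ℕ, p.Prime ∧ p ≠ 2 ∧ ∃ y : X, orderOf y = p ∧ t y = y⁻¹ ∧
      ∀ j, 0 < j → 2 ^ j < Nat.card E ^ 2 → ¬ p ∣ 4 ^ j - 1

variable {X : Type*} [Group X]

theorem KF.of_equiv {Y : Type*} [Group Y] (e : X ≃* Y) (h : KF Y) : KF X := fun E h1 h2 => by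
  have hc : Nat.card (E.map (MulAut.congr e).toMonoidHom) = Nat.card E :=
    card_map_of_injective (MulAut.congr e).injective
  obtain ⟨_, ⟨t, ht, rfl⟩, p, hp, hp2, y, h3, h4, h5⟩ := h (E.map (MulAut.congr e).toMonoidHom)
    (by rintro _ ⟨a, ha, rfl⟩; rw [← map_mul, h1 a ha, map_one]) (hc ▸ h2)
  exact ⟨t, ht, p, hp, hp2, e.symm y, by rwa [e.symm.orderOf_eq],
    e.injective (by simpa using h4), hc ▸ h5⟩

theorem conj_injective (hZ : center X = ⊥) : Function.Injective (MulAut.conj : X →* MulAut X) :=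
  (injective_iff_map_eq_one _).2 fun _ hs => mem_bot.1 (hZ ▸ mem_center_iff.2 fun g =>
    (mul_inv_eq_iff_eq_mul.1 (MulEquiv.congr_fun hs g)).symm)

theorem exists_inv_conj (hZ : center X = ⊥)
    (hc : ∀ g h : X, g * g = 1 → g ≠ 1 → h * h = 1 → h ≠ 1 → IsConj g h) {s y z : X}
    (h1 : MulAut.conj s * MulAut.conj s = 1) (h2 : MulAut.conj s ≠ 1) (ho : Odd (orderOf y))
    (hy : y ≠ 1) (hz : z * z = 1) (hi : z * y * z⁻¹ = y⁻¹) :
    ∃ y', orderOf y' = orderOf y ∧ MulAut.conj s y' = y'⁻¹ := by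
  obtain ⟨c, rfl⟩ := isConj_iff.1 (hc z s hz (by
    rintro rfl
    exact hy (eq_one_of_inv ho hi (by simp))) (conj_injective hZ (by rw [map_mul, h1, map_one]))
    (by rintro rfl; simp at h2))
  refine ⟨c * y * c⁻¹, (MulAut.conj c).orderOf_eq y, ?_⟩
  rw [MulAut.conj_apply, conj_inv (a := y), ← hi]
  group

theorem eq_one_of_sq_odd {Y : Type*} [Group Y] {a : Y} {n : ℕ} (hn : Odd n) (h1 : a * a = 1)
    (h2 : a ^ n = 1) : a = 1 := by
  obtain ⟨k, rfl⟩ := hn
  rwa [pow_succ, pow_mul, pow_two, h1, one_pow, one_mul] at h2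

theorem kf_sz (hZ : center X = ⊥) (h : Lie.IsoSuzuki X) : KF X := by
  obtain ⟨F, _, _, m, hm, hF, ⟨e⟩⟩ := sz_model h
  have h' : Lie.IsoSuzuki (tits hF).grp := ⟨F, _, _, m, hm, hF, ⟨lieSzEquiv hF⟩⟩
  replace hZ : center (tits hF).grp = ⊥ := by rw [← Comp.map_center_of_mulEquiv e, hZ, Subgroup.map_bot]
  have hF' : Nat.card F = 2 ^ (2 * m + 1) := by rwa [Nat.card_eq_fintype_card]
  refine KF.of_equiv e ?_
  generalize tits hF = τ at h' hZ
  intro E h1 h2
  have hin : E ≤ (MulAut.conj : τ.grp →* MulAut τ.grp).range := fun t ht => by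
    obtain ⟨x, α, rfl⟩ := Tits.exists_eq_conj_mul_fieldAut (Tits.exists_ne_zero_one' hm hF') t
    refine (QuotientGroup.eq_one_iff (N := Inn τ.grp) _).1 (eq_one_of_sq_odd (odd_two_mul_add_one m)
      (by rw [← QuotientGroup.mk_mul, h1 _ ht, QuotientGroup.mk_one]) ?_)
    rw [QuotientGroup.mk_mul, (QuotientGroup.eq_one_iff (N := Inn τ.grp) _).2 ⟨x, rfl⟩, one_mul,
      ← QuotientGroup.mk_pow, ← map_pow, ← card_ringEquiv hF', pow_card_eq_one', map_one,
      QuotientGroup.mk_one]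
  have hc : Nat.card E ≤ Nat.card F := by
    have h3 : ∀ g ∈ E.comap MulAut.conj, g * g = 1 := fun g hg =>
      conj_injective hZ (by rw [map_mul, h1 _ hg, map_one])
    obtain ⟨ω, hω⟩ := Tits.exists_fixed_of_isPGroup (P := E.comap MulAut.conj)
      fun g => ⟨1, Subtype.ext (by simpa [pow_two] using h3 g g.2)⟩
    obtain ⟨x, rfl⟩ := Tits.exists_smul_inf ω
    rw [← map_comap_eq_self hin, card_map_of_injective (conj_injective hZ), ← τ.card_Z, ← τ.Zpt_inf,
      ← card_map_of_injective (K := τ.Zpt .inf) (f := (MulAut.conj x).toMonoidHom)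
        (MulAut.conj x).injective]
    exact card_le_of_le fun g hg => (τ.Zpt_smul x .inf).le ⟨hω g hg, h3 g hg⟩
  obtain ⟨t, ht, ht1⟩ := (E.bot_or_exists_ne_one).resolve_left (by rintro rfl; simp at h2)
  obtain ⟨s, rfl⟩ := hin ht
  obtain ⟨p, hp, hd, hp'⟩ := Spec.zsigmondy (a := 2) (n := 4 * (2 * m + 1)) one_lt_two (by omega)
    (by omega) (by omega)
  have hp2 : p ≠ 2 := by
    rintro rfl
    have := (Nat.dvd_sub_iff_right Nat.one_le_two_pow (dvd_pow_self 2 (by omega))).1 hd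
    omega
  have hd' : p ∣ Nat.card τ.grp := by
    rw [show 4 * (2 * m + 1) = (2 * m + 1) * 2 * 2 by ring, pow_mul, ← one_pow 2, Nat.sq_sub_sq,
      one_pow] at hd
    rw [τ.card_grp, hF', ← pow_mul]
    exact (((Nat.Prime.dvd_mul hp).1 hd).resolve_right (hp' _ (by omega) (by omega))).trans
      ((dvd_mul_left _ _).mul_right _)
  have := Fact.mk hp
  obtain ⟨y, hy⟩ := exists_prime_orderOf_dvd_card' p hd'
  have hy1 : y ≠ 1 := by rintro rfl; exact hp.one_lt.ne (by simpa using hy)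
  have ho : Odd (orderOf y) := hy ▸ hp.odd_of_ne_two hp2
  obtain ⟨z, hz, hi⟩ := exists_invert h' hy1 ho
  obtain ⟨y', h3, h4⟩ := exists_inv_conj hZ (fun _ _ => Tits.isConj_of_involution) (h1 _ ht) ht1 ho
    hy1 hz hi
  refine ⟨_, ht, p, hp, hp2, y', h3.trans hy, h4, fun j h5 h6 h7 => hp' (2 * j) (by omega) ?_
    (by rwa [pow_mul])⟩
  have h8 := h6.trans_le (Nat.pow_le_pow_left (hc.trans hF'.le) 2)
  rw [← pow_mul, Nat.pow_lt_pow_iff_right one_lt_two] at h8
  omega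

theorem card_le_four {F : Type*} [Field F] [Finite F] [CharP F 3] (h3 : 3 < Nat.card F)
    {E : Subgroup PGL(2, F)} (h : ∀ e ∈ E, e * e = 1) : Nat.card E ≤ 4 := by
  classical
  have := Fact.mk Nat.prime_three
  rcases E.bot_or_exists_ne_one with rfl | ⟨t, ht, ht1⟩
  · simp
  obtain ⟨x, y, r, w, hT⟩ := exists_tor 3 (fun e => by
    have := (CharP.cast_eq_zero_iff F 3 2).1 (by exact_mod_cast e)
    omega) h3 (h t ht) ht1
  have hc : ∀ g ∈ E, (g • x = x ∧ g • y = y) ∨ (g • x = y ∧ g • y = x) := fun g hg =>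
    (hT.comm_iff 3 (h t ht) ht1).1 (by
      rw [← inv_eq_of_mul_eq_one_right (h _ (mul_mem hg ht)), mul_inv_rev,
        inv_eq_of_mul_eq_one_right (h g hg), inv_eq_of_mul_eq_one_right (h t ht)])
  have h1 : ∀ g ∈ E, g • x = x → g • y = y → g = 1 ∨ g = t := fun g hg h1 h2 =>
    or_iff_not_imp_left.2 fun h3 => eq_of_sq_of_fix 3 hT.ne (h g hg) h3 (h t ht) ht1 h1 h2 hT.tx hT.ty
  obtain ⟨u, hu⟩ : ∃ u, (E : Set PGL(2, F)) ⊆ {1, t, u, u * t} := by
    by_cases hs : ∃ u ∈ E, u • x = y ∧ u • y = x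
    · obtain ⟨u, hu, h2, h3⟩ := hs
      refine ⟨u, fun g hg => ?_⟩
      rcases hc g hg with h4 | h4
      · rcases h1 g hg h4.1 h4.2 with e | e <;> simp [e]
      · rcases h1 (u * g) (mul_mem hu hg) (by rw [mul_smul, h4.1, h3]) (by rw [mul_smul, h4.2, h2])
          with e | e
        · simp [eq_inv_of_mul_eq_one_right e, inv_eq_of_mul_eq_one_right (h u hu)]
        · simp [← e, ← mul_assoc, h u hu]
    · refine ⟨1, fun g hg => ?_⟩
      rcases hc g hg with h4 | h4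
      · rcases h1 g hg h4.1 h4.2 with e | e <;> simp [e]
      · exact absurd ⟨g, hg, h4⟩ hs
  refine (Set.ncard_le_ncard hu).trans ?_
  rw [← Finset.coe_singleton, ← Finset.coe_insert, ← Finset.coe_insert, ← Finset.coe_insert,
    Set.ncard_coe_finset]
  exact Finset.card_le_four

theorem exists_prime_three (n : ℕ) (hn : n ≠ 0) : ∃ p : ℕ, p.Prime ∧ p ≠ 2 ∧
    p ∣ (3 ^ (2 * n + 1) - 1) / 2 ∧ ∀ j, 0 < j → j < 4 → ¬ p ∣ 4 ^ j - 1 := by
  have h1 : ∀ a : ℕ, 3 ^ (2 * n + 1) % a = 3 ^ (2 * n + 1) % a := fun _ => rfl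
  have h2 : ∀ n : ℕ, 3 ^ (2 * n + 1) % 420 = 3 ∨ 3 ^ (2 * n + 1) % 420 = 27 ∨
      3 ^ (2 * n + 1) % 420 = 243 ∨ 3 ^ (2 * n + 1) % 420 = 87 ∨ 3 ^ (2 * n + 1) % 420 = 363 ∨
      3 ^ (2 * n + 1) % 420 = 327 := fun n => by
    induction n with
    | zero => simp
    | succ n ih => rw [show 2 * (n + 1) + 1 = 2 * n + 1 + 2 by ring, pow_add]; omega
  have h3 := Nat.pow_le_pow_right (show 0 < 3 by norm_num) (show 3 ≤ 2 * n + 1 by omega)
  have h4 := h2 n
  generalize 3 ^ (2 * n + 1) = q at *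
  obtain ⟨p, hp, hd⟩ := Nat.exists_prime_and_dvd (n := (q - 1) / 2) (by omega)
  refine ⟨p, hp, by rintro rfl; omega, hd, fun j h5 h6 h7 => ?_⟩
  have h8 : p ∣ 3 * 3 * 5 * 7 := h7.trans (by interval_cases j <;> norm_num)
  simp only [hp.dvd_mul, Nat.prime_dvd_prime_iff_eq hp Nat.prime_three,
    Nat.prime_dvd_prime_iff_eq hp Nat.prime_five, Nat.prime_dvd_prime_iff_eq hp Nat.prime_seven] at h8
  rcases h8 with ((rfl | rfl) | rfl) | rfl <;> omega

theorem kf_psl {F : Type} [Field F] [Fintype F] {n : ℕ} (hn : n ≠ 0)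
    (hF : Fintype.card F = 3 ^ (2 * n + 1)) (hZ : center PSL(2, F) = ⊥) : KF PSL(2, F) := by
  intro E h1 h2
  have := Fact.mk Nat.prime_three
  have : CharP F 3 := charP_of_card_eq_prime_pow hF
  have hF' : Nat.card F = 3 ^ (2 * n + 1) := by rwa [Nat.card_eq_fintype_card]
  have h27 := Nat.pow_le_pow_right (show 0 < 3 by norm_num) (show 3 ≤ 2 * n + 1 by omega)
  have hodd : Odd (3 ^ (2 * n + 1)) := (by decide : Odd 3).pow
  obtain ⟨Ψ, hΨ, hc⟩ := exists_psi (F := F)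
  let E' := (E.map Ψ).comap (SemidirectProduct.inl : PGL(2, F) →* PGam F)
  have h3 : Nat.card E' = Nat.card E := by
    rw [← card_map_of_injective (SemidirectProduct.inl_injective (φ := pglAut F)), map_comap_eq_self,
      card_map_of_injective hΨ]
    rintro _ ⟨t, ht, rfl⟩
    refine ⟨_, (eq_inl (eq_one_of_sq_odd (odd_two_mul_add_one n) ?_ ?_)).symm⟩
    · rw [← SemidirectProduct.mul_right, ← map_mul, h1 t ht, map_one, SemidirectProduct.one_right]
    · rw [← card_ringEquiv hF', pow_card_eq_one']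
  have h4 : Nat.card E ≤ 4 := h3 ▸ card_le_four (by omega) (by
    rintro a ⟨t, ht, e⟩
    apply SemidirectProduct.inl_injective (φ := pglAut F)
    rw [map_mul, ← e, ← map_mul, h1 t ht, map_one, map_one])
  obtain ⟨_, ⟨⟨s, rfl⟩, t, ht, e⟩, h5⟩ := (((pslPGL F).range ⊓ E').bot_or_exists_ne_one).resolve_left
    fun e => by
      have := psl_normal (K := F)
      have h5 := card_eq_relIndex_mul (pslPGL F).range E'
      have h6 := Nat.le_of_dvd two_pos ((relIndex_dvd_index_of_normal _ E').trans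
        (index_psl_odd (hF' ▸ hodd)).dvd)
      rw [e, card_bot] at h5
      omega
  obtain rfl : t = MulAut.conj s := hΨ (by rw [e, hc])
  obtain ⟨p, hp, hp2, hd, hp'⟩ := exists_prime_three n hn
  obtain ⟨H, -, ⟨φ⟩⟩ := Cfsg.Agent.S0812.result hF (by
    simp only [Finset.mem_insert, Finset.mem_singleton]; omega)
  rw [show Nat.gcd 2 (3 ^ (2 * n + 1) - 1) = 2 from Nat.gcd_eq_left (by
    obtain ⟨k, hk⟩ := hodd; omega)] at φ
  generalize hm : (3 ^ (2 * n + 1) - 1) / 2 = m at φ hd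
  have hm0 : NeZero m := ⟨by omega⟩
  let ψ := H.subtype.comp φ.symm.toMonoidHom
  have hy : orderOf (ψ (DihedralGroup.r 1 ^ (m / p))) = p := by
    rw [orderOf_injective ψ (H.subtype_injective.comp φ.symm.injective)]
    have := orderOf_pow_orderOf_div (x := (DihedralGroup.r 1 : DihedralGroup m)) (n := p)
    rw [DihedralGroup.orderOf_r_one] at this
    exact this hm0.1 hd
  obtain ⟨A, hA⟩ := Sylow.exists_subgroup_card_pow_prime (G := SL(2, F)) 2 (n := 2) (by
    obtain ⟨k, hk⟩ := hodd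
    rw [Classical.sl2_card, hF, hk, show (2 * k + 1) ^ 2 = 2 ^ 2 * (k * k + k) + 1 by ring]
    exact (dvd_mul_right _ _).mul_left _)
  obtain ⟨y', h6, h7⟩ := exists_inv_conj hZ (fun a b ha ha1 hb hb1 =>
    (Cfsg.Agent.S0809.result hF hodd A hA).2.2.2 a b
      (orderOf_eq_prime (by rwa [pow_two]) ha1) (orderOf_eq_prime (by rwa [pow_two]) hb1))
    (h1 _ ht) (fun e => h5 (by rw [conj_injective hZ (e.trans (map_one _).symm), map_one]))
    (hy.symm ▸ hp.odd_of_ne_two hp2) (fun e => hp.one_lt.ne (by rw [← hy, e, orderOf_one]))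
    (z := ψ (DihedralGroup.sr 0)) (by rw [← map_mul]; simp)
    (by rw [← map_inv, ← map_mul, ← map_mul, ← map_inv]; simp)
  refine ⟨_, ht, p, hp, hp2, y', h6.trans hy, h7, fun j h8 h9 => hp' j h8 ?_⟩
  exact (Nat.pow_lt_pow_iff_right one_lt_two).1 (h9.trans_le (Nat.pow_le_pow_left h4 2))

theorem kf_of (hs : IsSimpleGroup X) (hn : ¬ IsMulCommutative X)
    (h : IsSuzukiOrPSL2OddPowerThree X) : KF X := by
  have hZ : center X = ⊥ := (hs.eq_bot_or_eq_top_of_normal _ inferInstance).resolve_right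
    fun e => hn ⟨⟨fun a b => mem_center_iff.1 (e ▸ mem_top b) a⟩⟩
  rcases h with h | ⟨F, _, _, n, hF, ⟨e⟩⟩
  · exact kf_sz hZ h
  refine KF.of_equiv e (kf_psl ?_ hF (by
    rw [← Comp.map_center_of_mulEquiv e, hZ, Subgroup.map_bot]))
  rintro rfl
  have := psl_isSolvable (F := F) (by rw [Nat.card_eq_fintype_card, hF]; norm_num)
  exact hn ⟨⟨IsSimpleGroup.comm_iff_isSolvable.2
    (Group.isSolvable_of_isSolvable_injective (f := e.toMonoidHom) e.injective)⟩⟩

variable {G : Type u} [Group G] [Finite G]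

omit [Finite G] in
theorem cf_of_kf {K : Subgroup G} (hK : IsComponent K) (h : KF (K ⧸ center K)) : CF K := by
  intro N hN h1 h2
  let ψ : MulAut K →* MulAut (K ⧸ center K) := MonoidHom.mk' (fun σ =>
    QuotientGroup.congr (center K) (center K) σ (characteristic_iff_map_eq.1 inferInstance σ))
    fun a b => by
      ext x
      obtain ⟨x, rfl⟩ := QuotientGroup.mk_surjective x
      rfl
  let φ := ψ.comp K.normalizerMonoidHom
  have hφ : ∀ g (k : K), φ g k = (K.normalizerMonoidHom g k : K) := fun _ _ => rfl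
  have hZ : ∀ k : K, (k : K ⧸ center K) = 1 ↔ (k : G) ∈ centralizer (K : Set G) := fun k => by
    rw [QuotientGroup.eq_one_iff, Comp.center_eq_subgroupOf_centralizer, mem_subgroupOf]
  have hk : φ.ker = (centralizer (K : Set G)).subgroupOf (normalizer (K : Set G)) := by
    ext g
    rw [MonoidHom.mem_ker, mem_subgroupOf]
    refine ⟨fun hg => ?_, fun hg => ?_⟩
    · let U : Subgroup G := (φ.ker).map (Subgroup.subtype _)
      refine le_centralizer_iff.1 (commutator_eq_bot_iff_le_centralizer.1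
        (Comp.commutator_eq_bot_of_perfect (U := U) (Comp.comp_perfect hK)
          (commutator_eq_bot_iff_le_centralizer.2 (commutator_le.2 ?_)))) ⟨g, hg, rfl⟩
      rintro _ ⟨u, hu, rfl⟩ k hk
      refine (hZ (K.normalizerMonoidHom u ⟨k, hk⟩ * ⟨k, hk⟩⁻¹)).1 ?_
      rw [QuotientGroup.mk_mul, ← hφ, MonoidHom.mem_ker.1 hu, QuotientGroup.mk_inv]
      simp
    · ext x
      obtain ⟨x, rfl⟩ := QuotientGroup.mk_surjective x
      rw [hφ, show K.normalizerMonoidHom g x = x from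
        Subtype.ext (mul_inv_eq_iff_eq_mul.2 (hg x x.2).symm)]
      rfl
  have hc : Nat.card ((N.subgroupOf (normalizer (K : Set G))).map φ) =
      (centralizer (K : Set G)).relIndex N := by
    rw [← relIndex_ker, hk, relIndex_subgroupOf hN]
  obtain ⟨_, ⟨t, ht, rfl⟩, p, hp, hp2, y, h3, h4, h5⟩ := h ((N.subgroupOf _).map φ) (by
    rintro _ ⟨a, ha, rfl⟩
    rw [← map_mul, show a * a = 1 from Subtype.ext (h1 a ha), map_one]) (hc ▸ h2)
  obtain ⟨x, rfl⟩ := QuotientGroup.mk_surjective y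
  have h6 : ((x * (K.normalizerMonoidHom t x)⁻¹ : K) : K ⧸ center K) = (x : K ⧸ center K) ^ 2 := by
    rw [QuotientGroup.mk_mul, QuotientGroup.mk_inv, ← hφ, h4, inv_inv, pow_two]
  refine ⟨t, ht, p, hp, hp2, _, (x * (K.normalizerMonoidHom t x)⁻¹).2, fun hm => hp2 ?_,
    (hZ (_ ^ p)).1 ?_, ?_, hc ▸ h5⟩
  · rw [← hZ, h6, ← orderOf_dvd_iff_pow_eq_one, h3] at hm
    exact (Nat.prime_dvd_prime_iff_eq hp Nat.prime_two).1 hm
  · rw [QuotientGroup.mk_pow, h6, ← pow_mul, mul_comm, pow_mul, ← h3, pow_orderOf_eq_one, one_pow]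
  · change (t : G) * (x * ((t : G) * x * (t : G)⁻¹)⁻¹) * (t : G)⁻¹ =
      ((x : G) * ((t : G) * x * (t : G)⁻¹)⁻¹)⁻¹
    calc _ = (t : G) * x * (t : G)⁻¹ * (t * t) * (x : G)⁻¹ * ((t : G) * t)⁻¹ := by group
      _ = _ := by rw [h1 t ht]; group

theorem sq_le_of_comp {f : Subgroup G → ℕ} (hf : KL f) (h3 : ¬ Involves (Perm (Fin 3)) G)
    (h2 : pCore 2 G = ⊥) (hK : IsCompositionKGroupWith IsSuzukiOrPSL2OddPowerThree G)
    {A : Subgroup G} (hA : IsElementaryAbelian 2 A) : Nat.card A ^ 2 * f A ≤ f ⊥ :=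
  sq_le hf h3 h2 (fun K h => cf_of_kf h (kf_of h.2.2 (Comp.qs_quotient_center_not_isMulCommutative h.2)
    (hK K h.1 _ h.2.2 (Comp.qs_quotient_center_not_isMulCommutative h.2)))) hA

theorem sq_le_rep {V : Type*} [AddCommGroup V] [Module (ZMod 2) V] [Module.Finite (ZMod 2) V]
    {ρ : Representation (ZMod 2) G V} (hρ : Function.Injective ρ)
    (h3 : ¬ Involves (Perm (Fin 3)) G) (h2 : pCore 2 G = ⊥)
    (hK : IsCompositionKGroupWith IsSuzukiOrPSL2OddPowerThree G) {A : Subgroup G}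
    (hA : IsElementaryAbelian 2 A) : Nat.card A ^ 2 * Nat.card (S4Free.fix ρ A) ≤ Nat.card V ∧
      Nat.card A ^ 2 ≤ Nat.card (S4Free.comm ρ ⊤ A) := by
  have := BCor.finite_mod (V := V)
  have := BCor.finite_mod (V := Module.Dual (ZMod 2) V)
  refine ⟨(sq_le_of_comp (kl_fix hρ) h3 h2 hK hA).trans
    (Nat.card_le_card_of_injective _ Subtype.val_injective), ?_⟩
  have h1 := (sq_le_of_comp (kl_fix (dual_injective hρ)) h3 h2 hK hA).trans
    ((Nat.le_mul_of_pos_right _ Nat.card_pos).trans (card_fix_dual ρ ⊥).le)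
  rw [← card_fix_dual ρ A, mul_comm] at h1
  exact Nat.le_of_mul_le_mul_left h1 Nat.card_pos

theorem s2752 {M H A : Subgroup G} (hM : IsElementaryAbelian 2 M) (hH : H ≤ normalizer (M : Set G))
    (hf : H ⊓ centralizer (M : Set G) = ⊥) (h2 : pCore 2 H = ⊥) (h3 : ¬ Involves (Perm (Fin 3)) H)
    (hK : IsCompositionKGroupWith IsSuzukiOrPSL2OddPowerThree H) (hA : A ≤ H)
    (hAe : IsElementaryAbelian 2 A) :
    Nat.card A ^ 2 * Nat.card ↥(M ⊓ centralizer (A : Set G)) ≤ Nat.card M ∧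
      Nat.card A ^ 2 ≤ Nat.card ↥⁅M, A⁆ := by
  have h := sq_le_rep (rep_injective hM hH hf) h3 h2 hK (elemAb_subgroupOf hAe H)
  rw [card_fix_rep hM hH hA, Nat.card_congr (subgroupOfEquivOfLe hA).toEquiv] at h
  exact ⟨h.1, h.2.trans (card_comm_rep hM hH A)⟩

end CfsgLib.S4Cor
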