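import Mathlib
import Cfsg.Prelude.Def_LocalEven
import Cfsg.Agent.Lib.S4Cor.Off3
import Cfsg.Agent.Lib.S4Free.App

/-! Glauberman's subgroup `Ĵ(S)` and the factorization theorem for `p = 2`. -/

set_option autoImplicit false

namespace CfsgLib.S4Cor

open Subgroup Cfsg CfsgLib.PLocal CfsgLib.LAE CfsgLib.S4Free Equiv
open scoped commutatorElement

universe u

variable {G : Type u} [Group G]

/-- The property of `V` in the definition of an E-group. -/
def EP (V T : Subgroup G) : Prop :=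
  ∀ R ≤ T, ⁅R, R⁆ ≤ centralizer (V : Set G) → (∀ r ∈ R, r ^ 2 ∈ centralizer (V : Set G)) →
    ¬ R ≤ centralizer (V : Set G) →
      (centralizer (V : Set G)).relIndex R ^ 3 < (centralizer (R : Set G)).relIndex V ^ 2 ∧
        (centralizer (V : Set G)).relIndex R < Nat.card ↥⁅V, R⁆

/-- E-groups inside an ambient group. -/
def EG (T : Subgroup G) : Prop :=
  ∀ V ≤ T, T ≤ normalizer (V : Set G) → IsElementaryAbelian 2 V → EP V T →
    V ≤ centralizer (T : Set G)

/-- `Ĵ(S)` inside an ambient group. -/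
def JH (S : Subgroup G) : Subgroup G := sSup {U | U ≤ S ∧ EG U ∧ thompsonSubgroupOf 2 S ≤ U}

section Transport

variable {G' : Type u} [Group G'] {f : G →* G'} (hf : Function.Injective f)
include hf

theorem ep_map {V T : Subgroup G} : EP (V.map f) (T.map f) ↔ EP V T := by
  simp only [EP, forall_le_map hf, ← map_commutator, map_le_cent hf, forall_map, ← map_pow,
    map_mem_cent hf, relIndex_cent_map hf, card_map_of_injective hf]

theorem eg_map {T : Subgroup G} : EG (T.map f) ↔ EG T := by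
  simp only [EG, forall_le_map hf, map_le_normalizer_map_iff hf, elemAb_map_iff hf, ep_map hf,
    map_le_cent hf]

theorem map_JH (S : Subgroup G) : (JH S).map f = JH (S.map f) := by
  refine le_antisymm (map_le_iff_le_comap.mpr (sSup_le fun U hU => map_le_iff_le_comap.mp
    (le_sSup ⟨map_mono hU.1, (eg_map hf).2 hU.2.1, map_thompsonSubgroupOf hf S ▸ map_mono hU.2.2⟩)))
    (sSup_le fun U hU => ?_)
  have e := map_comap_eq_self (hU.1.trans (map_le_range f S))
  rw [← e, Set.mem_ofPred, ← map_thompsonSubgroupOf hf, map_le_map_iff_of_injective hf,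
    map_le_map_iff_of_injective hf, eg_map hf] at hU
  rw [← e]
  exact map_mono (le_sSup hU)

end Transport

theorem norm_le_norm_JH (S : Subgroup G) : normalizer (S : Set G) ≤ normalizer (JH S : Set G) :=
  fun g hg => by
    rw [mem_normalizer_iff_conjS] at hg ⊢
    exact (map_JH (MulAut.conj g).injective S).trans (congrArg JH hg)

theorem JH_le (S : Subgroup G) : JH S ≤ S := sSup_le fun _ h => h.1

theorem EP.mono {V T T' : Subgroup G} (h : EP V T) (hT : T' ≤ T) : EP V T' :=
  fun R hR => h R (hR.trans hT)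

variable [Finite G]

theorem isEGroup_iff : IsEGroup G ↔ EG (⊤ : Subgroup G) := by
  refine forall_congr' fun V => ?_
  rw [imp_iff_right le_top, top_le_iff, normalizer_eq_top_iff, coe_top, centralizer_univ]
  refine forall₂_congr fun _ _ => imp_congr_left (forall_congr' fun R => ?_)
  rw [imp_iff_right le_top]
  refine forall₃_congr fun _ _ _ => ?_
  rw [card_eq_relIndex_mul (centralizer (V : Set G)) R, card_eq_relIndex_mul (centralizer (R : Set G)) V,
    inf_comm R, inf_comm V]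
  have h1 := Nat.card_pos (α := ↥(centralizer (V : Set G) ⊓ R))
  have h2 := Nat.card_pos (α := ↥(centralizer (R : Set G) ⊓ V))
  refine and_congr ?_ (Nat.mul_lt_mul_right h1)
  rw [mul_pow, mul_pow, mul_assoc, mul_assoc, mul_comm (Nat.card ↥(centralizer (R : Set G) ⊓ V) ^ 2)]
  exact Nat.mul_lt_mul_right (by positivity)

theorem map_jHat (S : Subgroup G) : (jHat S).map S.subtype = JH S := by
  have h : jHat S = JH ⊤ := congrArg sSup (Set.ext fun U => by
    rw [Set.mem_ofPred, Set.mem_ofPred, isEGroup_iff, ← eg_map U.subtype_injective,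
      ← MonoidHom.range_eq_map, range_subtype, thompsonSubgroupOf_top, and_iff_right le_top])
  rw [h, map_JH S.subtype_injective, ← MonoidHom.range_eq_map, range_subtype]

variable {S T V R : Subgroup G}

omit [Finite G] in
theorem EP.le_cent (h : EP V T) (hR : R ≤ T) (hn : R ≤ normalizer (V : Set G))
    (hs : ∀ r ∈ R, r * r ∈ centralizer (V : Set G))
    (hle : (centralizer (R : Set G)).relIndex V ^ 2 ≤ (centralizer (V : Set G)).relIndex R ^ 3) :
    R ≤ centralizer (V : Set G) := by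
  by_contra hne
  refine (h R hR (commutator_le.mpr fun a ha b hb => ?_) (fun r hr => pow_two r ▸ hs r hr)
    hne).1.not_ge hle
  have e : ⁅a, b⁆ = a * b * (a * b) * (b⁻¹ * (a⁻¹ * a⁻¹) * b⁻¹⁻¹) * (b⁻¹ * b⁻¹) := by
    simp [commutatorElement_def, mul_assoc]
  rw [e]
  exact mul_mem (mul_mem (hs _ (mul_mem ha hb)) ((mem_normalizer_iff.mp
    (CfsgLib.Core.normalizer_le_normalizer_centralizer _ (hn (inv_mem hb))) _).mp
      (hs _ (inv_mem ha)))) (hs _ (inv_mem hb))

theorem EP.le_cent_of_off (h : EP V T) (hR : R ≤ T) (hn : R ≤ normalizer (V : Set G))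
    (hO : Off R V) : R ≤ centralizer (V : Set G) :=
  h.le_cent hR hn hO.1 ((Nat.pow_le_pow_left hO.2 2).trans
    (Nat.pow_le_pow_right (Nat.pos_of_ne_zero index_ne_zero_of_finite) (by norm_num)))

theorem EP.le_cent_of_nq (h : EP V T) (hR : R ≤ T) (hn : R ≤ normalizer (V : Set G))
    {V₁ : Subgroup G} (hN : NQ V R V₁) : R ≤ centralizer (V : Set G) := by
  refine h.le_cent hR hn hN.sq ?_
  have h1 := relIndex_mul_relIndex (centralizer (R : Set G) ⊓ V) V₁ V
    (fun u hu => hN.Z_le u hu.2 hu.1) hN.lt.le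
  rw [inf_relIndex_right, ← inf_relIndex_right _ V₁, inf_assoc, inf_eq_right.2 hN.lt.le,
    inf_relIndex_right] at h1
  have h2 := (hN.ho V₁ le_rfl).trans
    (relIndex_le_of_le_left (centralizer_le hN.lt.le) index_ne_zero_of_finite)
  have h3 := (hN.big 1 (one_mem _)).trans
    (relIndex_le_of_le_right inf_le_left index_ne_zero_of_finite)
  rw [← h1, mul_pow, pow_succ _ 2]
  exact Nat.mul_le_mul (Nat.pow_le_pow_left h2 2) (h3.trans h2)

theorem EP.thompson_le (h : EP V T) (hV : IsElementaryAbelian 2 V) (hVS : V ≤ S)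
    (hJ : thompsonSubgroupOf 2 S ≤ T) (hn : T ≤ normalizer (V : Set G)) :
    thompsonSubgroupOf 2 S ≤ centralizer (V : Set G) :=
  thompsonSubgroupOf_le_iff.2 fun A hA =>
    have h1 := (le_thompsonSubgroupOf hA).trans hJ
    h.le_cent_of_off h1 (h1.trans hn) ⟨fun r hr => by rw [← pow_two, hA.2.1.2 r hr]; exact one_mem _,
      ho_of_best hV (bestOffender_of_mem_maxElemIn hV hVS hA) V le_rfl⟩

theorem thompson_le_JH (S : Subgroup G) : thompsonSubgroupOf 2 S ≤ JH S :=
  le_sSup ⟨thompsonSubgroupOf_le S, fun _ h1 h2 h3 h4 => le_centralizer_iff.1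
    (h4.thompson_le h3 (h1.trans (thompsonSubgroupOf_le S)) le_rfl h2), le_rfl⟩

theorem EP.le_omegaZ (h : EP V T) (hV : IsElementaryAbelian 2 V) (hVS : V ≤ S) (hJ : JH S ≤ T)
    (hn : T ≤ normalizer (V : Set G)) : V ≤ omegaZ 2 (JH S) := by
  have h1 : V ≤ thompsonSubgroupOf 2 S := fun v hv => mem_thompsonSubgroupOf_of_centralizes (hVS hv)
    (le_centralizer_iff.1 (h.thompson_le hV hVS ((thompson_le_JH S).trans hJ) hn) hv) (hV.2 v hv)
  refine le_omegaOne_of_elemAb hV (le_inf (h1.trans (thompson_le_JH S))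
    (le_centralizer_iff.1 (sSup_le fun U hU => le_centralizer_iff.1 ?_)))
  have h2 : U ≤ T := (le_sSup hU).trans hJ
  exact hU.2.1 V (h1.trans hU.2.2) (h2.trans hn) hV (h.mono h2)

theorem le_cent_omegaZ (hR : R ≤ S) (h : ∀ V ≤ omegaZ 2 (JH S), R ≤ normalizer (V : Set G) →
    IsElementaryAbelian 2 V → EP V R → R ≤ centralizer (V : Set G)) :
    R ≤ centralizer (omegaZ 2 (JH S) : Set G) := by
  have h1 : JH S ⊔ R ≤ S := sup_le (JH_le S) hR
  suffices h7 : EG (JH S ⊔ R) from (le_sup_right.trans (show JH S ⊔ R ≤ JH S from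
    le_sSup ⟨h1, h7, (thompson_le_JH S).trans le_sup_left⟩)).trans (le_centralizer_omegaZ (JH S))
  intro V h2 h3 h4 h5
  have h6 := h5.le_omegaZ h4 (h2.trans h1) le_sup_left h3
  exact le_centralizer_iff.1 (sup_le ((le_centralizer_omegaZ _).trans (centralizer_le h6))
    (h V h6 (le_sup_right.trans h3) h4 (h5.mono le_sup_right)))

theorem pi_omegaZ_JH (S : Subgroup G) : S4Free.Pi S (omegaZ 2 (JH S)) := by
  have he : IsElementaryAbelian 2 (omegaZ 2 (JH S)) := elemAb_omegaOne_center _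
  have hn : S ≤ normalizer (omegaZ 2 (JH S) : Set G) := fun g hg => by
    have := mem_normalizer_iff_conjS.1 (norm_le_norm_JH S (le_normalizer hg))
    exact mem_normalizer_iff_conjS.2 ((map_omegaOne_center (MulAut.conj g).injective _).trans
      (congrArg (omegaZ 2) this))
  refine ⟨((omegaOne_le _).trans inf_le_left).trans (JH_le S), hn, he,
    pi1_of_ho he hn fun R hR hq hO => le_cent_omegaZ hR fun V h1 h2 h3 h4 =>
      h4.le_cent_of_off le_rfl h2 ⟨(hq.mono h1).sq h3 h2, hO V h1⟩,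
    fun R hR U₁ hN => hN.lt.not_ge fun u hu => hN.Z_le u hu (le_centralizer_iff.1
      (le_cent_omegaZ hR fun V h1 h2 h3 h4 => ?_) hu)⟩
  by_cases hle : V ≤ U₁
  · exact h4.le_cent_of_off le_rfl h2 ⟨(hN.quad.mono hle).sq h3 h2, hN.ho V hle⟩
  · exact h4.le_cent_of_nq le_rfl h2 (hN.restrict h1 h2 hle)

omit [Finite G] in
theorem compK_of_surjective {Q : Type u} [Group Q] {f : G →* Q} (hf : Function.Surjective f)
    (h : IsCompositionKGroupWith IsSuzukiOrPSL2OddPowerThree G) :
    IsCompositionKGroupWith IsSuzukiOrPSL2OddPowerThree Q := by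
  intro H hH N _ hs hc
  have hφ := (QuotientGroup.mk'_surjective N).comp
    (MonoidHom.subgroupComap_surjective_of_surjective f H hf)
  let e := QuotientGroup.quotientKerEquivOfSurjective
    ((QuotientGroup.mk' N).comp (f.subgroupComap H)) hφ
  rcases h _ (hH.comap f) _ e.isSimpleGroup (fun hc' => hc ⟨⟨fun a b => e.symm.injective (by
    rw [map_mul, map_mul, hc'.is_comm.comm])⟩⟩) with ⟨F, _, _, m, hm, hF, ⟨e'⟩⟩ | ⟨F, _, _, n, hF, ⟨e'⟩⟩
  · exact Or.inl ⟨F, _, _, m, hm, hF, ⟨e.symm.trans e'⟩⟩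
  · exact Or.inr ⟨F, _, _, n, hF, ⟨e.symm.trans e'⟩⟩

theorem ep_of_normal [V.Normal] (hV : IsElementaryAbelian 2 V) (h3 : S3Free G)
    (h2 : pCore 2 (G ⧸ centralizer (V : Set G)) = ⊥)
    (hK : IsCompositionKGroupWith IsSuzukiOrPSL2OddPowerThree G) : EP V ⊤ := by
  intro R _ h4 h5 h6
  have hn : ⊤ ≤ normalizer (V : Set G) := le_normalizer_of_normal
  let ρ₀ : G →* Module.End (ZMod 2) (ElemMod hV) :=
    (ElemMod.rep hV hn).comp topEquiv.symm.toMonoidHom
  have hk : ∀ g, ρ₀ g = 1 ↔ g ∈ centralizer (V : Set G) := fun g =>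
    ElemMod.rep_eq_one_iff hn ⟨g, trivial⟩
  let π := QuotientGroup.mk' (centralizer (V : Set G))
  let ρ := QuotientGroup.lift _ ρ₀ fun g hg => (hk g).2 hg
  have h := sq_le_rep (ρ := ρ) ((injective_iff_map_eq_one _).2 fun g hg => by
      obtain ⟨g, rfl⟩ := QuotientGroup.mk_surjective g
      exact (QuotientGroup.eq_one_iff _).2 ((hk g).1 hg))
    (fun h => h3.sec (CFun.sec_quotient _) (CFun.sec_iff_involves.2 h)) h2
    (compK_of_surjective (QuotientGroup.mk'_surjective _) hK) (A := R.map π)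
    (elemAb_iff.2 ⟨by
      rintro _ ⟨a, ha, rfl⟩ _ ⟨b, hb, rfl⟩
      rw [← commutatorElement_eq_one_iff_mul_comm, ← map_commutatorElement]
      exact (QuotientGroup.eq_one_iff _).2 (h4 (commutator_mem_commutator ha hb)), by
      rintro _ ⟨a, ha, rfl⟩
      exact (QuotientGroup.eq_one_iff _).2 (h5 a ha)⟩)
  have e1 : fix ρ (R.map π) = ElemMod.sub hV (centralizer (R : Set G)) := by
    ext x
    exact ⟨fun h a ha => (ElemMod.rep_apply_eq_iff hn ⟨a, trivial⟩ x).1
      (D_eq_zero_iff.1 (h _ (mem_map_of_mem π ha))), by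
        rintro h _ ⟨a, ha, rfl⟩
        exact D_eq_zero_iff.2 ((ElemMod.rep_apply_eq_iff hn ⟨a, trivial⟩ x).2 (h _ ha))⟩
  have e2 : Nat.card (comm ρ ⊤ (R.map π)) ≤ Nat.card ↥⁅V, R⁆ := by
    rw [← ElemMod.card_toSubgroup]
    refine card_le_of_le ?_
    rintro _ ⟨x, hx, rfl⟩
    refine (comm_le_iff (X := ElemMod.sub hV ⁅V, R⁆)).2 ?_ hx
    rintro _ ⟨a, ha, rfl⟩ m -
    rw [ElemMod.mem_sub, Subgroup.commutator_comm]
    exact (ElemMod.toG_rep_sub hn ⟨a, trivial⟩ m).symm ▸
      commutator_mem_commutator ha m.toG_mem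
  rw [← relIndex_ker, QuotientGroup.ker_mk', e1, ElemMod.card_sub, ElemMod.card_eq,
    card_eq_relIndex_mul (centralizer (R : Set G)) V, inf_comm] at h
  have h7 := Nat.le_of_mul_le_mul_right h.1 Nat.card_pos
  have h8 := h.2.trans e2
  have h9 : 1 < (centralizer (V : Set G)).relIndex R := Nat.one_lt_iff_ne_zero_and_ne_one.2
    ⟨index_ne_zero_of_finite, fun e => h6 (relIndex_eq_one.1 e)⟩
  refine ⟨lt_of_lt_of_le ?_ (Nat.pow_le_pow_left h7 2), lt_of_lt_of_le ?_ h8⟩
  · rw [← pow_mul]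
    exact Nat.pow_lt_pow_right h9 (by norm_num)
  · exact (pow_one _).symm.trans_lt (Nat.pow_lt_pow_right h9 one_lt_two)

theorem exists_cent_mul_JH (h4 : ¬ Involves (Perm (Fin 4)) G)
    (hc : centralizer (pCore 2 G : Set G) ≤ pCore 2 G)
    (hK : IsCompositionKGroupWith IsSuzukiOrPSL2OddPowerThree G) (S : Sylow 2 G) (g : G) :
    ∃ c ∈ centralizer (((S : Subgroup G) ⊓ centralizer ((S : Subgroup G) : Set G) : Subgroup G) : Set G),
      ∃ n ∈ normalizer (JH (S : Subgroup G) : Set G), g = c * n := by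
  have := omegaClosure_normal (p := 2) (G := G)
  have hV := elemAb_omegaClosure hc
  have h1 : JH (S : Subgroup G) ≤ centralizer (omegaClosure 2 G : Set G) :=
    (le_centralizer_omegaZ _).trans (centralizer_le ((ep_of_normal hV (s3Free_of_char2 h4 hc)
      (pCore_quotient_centralizer_eq_bot omegaClosure_le_iSup) hK).le_omegaZ hV
      ((omegaClosure_le_pCore hc).trans (Core.pCore_le_sylow S)) le_top le_normalizer_of_normal))
  have h2 : thompsonSubgroupOf 2 ((S : Subgroup G) ⊓ centralizer (omegaClosure 2 G : Set G)) = _ :=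
    thompsonSubgroupOf_eq_of_le inf_le_left
      (le_inf (thompsonSubgroupOf_le _) ((thompson_le_JH _).trans h1))
  have h3 : JH ((S : Subgroup G) ⊓ centralizer (omegaClosure 2 G : Set G)) = JH S :=
    congrArg sSup (Set.ext fun U => ⟨fun h => ⟨h.1.trans inf_le_left, h.2.1, h2 ▸ h.2.2⟩,
      fun h => ⟨le_inf h.1 ((le_sSup h).trans h1), h.2.1, h2 ▸ h.2.2⟩⟩)
  obtain ⟨c, hc', n, hn, rfl⟩ := ((isSylowIn_top S).inf_of_normal
    (N := centralizer (omegaClosure 2 G : Set G)) le_top le_normalizer_of_normal).frattini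
    (x := g) (le_normalizer_of_normal (mem_top g))
  exact ⟨c, le_cent_center hc (isSylowIn_top S) le_sup_right (sup_le
    (centralizer_le (le_omegaClosure S)) (le_centralizer_omegaZ _)) (mem_sup_left hc'), n,
    h3 ▸ norm_le_norm_JH _ hn, rfl⟩

end CfsgLib.S4Cor
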