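import Mathlib
import Cfsg.Agent.Lib.S4Cor.Basic
import Cfsg.Agent.Lib.Gold.Cor1
import Cfsg.Agent.Lib.Gold.All

/-! Thompson's theorem on simple groups of order prime to three. -/

set_option autoImplicit false

namespace CfsgLib.S4Cor

universe u

theorem t3_of_all (h : Gold.Cor.All.{u}) : T3.{u} := fun _ _ _ _ hn h3 =>
  Gold.Cor.isoSuzuki_of_three h hn h3

theorem t3 : T3.{u} := t3_of_all Gold.all

end CfsgLib.S4Cor
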